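import Mathlib

/-!
# Local data of type `L₃(q)`, `q` even

`LThreeLocal A B q` is what the fusion analysis of a group with Sylow 2-subgroup `UT₃(q)` delivers; `LThreeCoord` are
coordinates of the Sylow 2-subgroup `S = AB` alone. `TypeL3/Back*.lean` derive `G ≃* PSL₃(F)` from the two.
-/

set_option autoImplicit false

namespace Cfsg.Agent.TypeL3.Local

open Subgroup

/-- `S = A B` is a Sylow 2-subgroup of `G`, `A`, `B` elementary abelian of order `q ^ 2`, `A ⊓ B` of order `q`, all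
involutions of `S` lie in `A ∪ B`, `N(A)` is transitive on `A \ 1`, `N(B)` on `B \ 1`, the conjugates of `A ⊓ B` in
`A` (and in `B`) form a partition and the centralizer of a nontrivial element of `A ⊓ B` normalizes `A` and `B`. -/
structure LThreeLocal {G : Type*} [Group G] (A B : Subgroup G) (q : ℕ) : Prop where
  four_le : 4 ≤ q
  even_q : Even q
  A_comm : ∀ a ∈ A, ∀ b ∈ A, a * b = b * a
  B_comm : ∀ a ∈ B, ∀ b ∈ B, a * b = b * a
  A_sq : ∀ a ∈ A, a * a = 1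
  B_sq : ∀ b ∈ B, b * b = 1
  card_A : Nat.card A = q ^ 2
  card_B : Nat.card B = q ^ 2
  card_Z : Nat.card (A ⊓ B : Subgroup G) = q
  A_le : A ≤ normalizer (B : Set G)
  B_le : B ≤ normalizer (A : Set G)
  sylow : ∃ S : Sylow 2 G, (S : Subgroup G) = A ⊔ B
  inv_mem : ∀ s ∈ A ⊔ B, s * s = 1 → s ∈ A ∨ s ∈ B
  trans_A : ∀ a ∈ A, a ≠ 1 → ∀ b ∈ A, b ≠ 1 → ∃ g ∈ normalizer (A : Set G), g * a * g⁻¹ = b
  trans_B : ∀ a ∈ B, a ≠ 1 → ∀ b ∈ B, b ≠ 1 → ∃ g ∈ normalizer (B : Set G), g * a * g⁻¹ = b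
  H1 : ∀ g ∈ normalizer (A : Set G), g ∉ normalizer (B : Set G) → ∀ z ∈ A ⊓ B, g * z * g⁻¹ ∈ A ⊓ B → z = 1
  H2 : ∀ g ∈ normalizer (B : Set G), g ∉ normalizer (A : Set G) → ∀ z ∈ A ⊓ B, g * z * g⁻¹ ∈ A ⊓ B → z = 1
  cent_Z : ∀ z ∈ A ⊓ B, z ≠ 1 → centralizer {z} ≤ normalizer (A : Set G) ⊓ normalizer (B : Set G)
  not_conj : ∀ g : G, ∃ a ∈ A, g * a * g⁻¹ ∉ B

/-- Coordinates of `S = A B`: `A = x(F) z(F)`, `B = y(F) z(F)`, `[x a, y b] = z (a b)`. -/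
structure LThreeCoord {G : Type*} [Group G] (A B : Subgroup G) {F : Type*} [Field F] (x y z : F → G) : Prop where
  x_add : ∀ a b, x (a + b) = x a * x b
  y_add : ∀ a b, y (a + b) = y a * y b
  z_add : ∀ a b, z (a + b) = z a * z b
  mem_A : ∀ g, g ∈ A ↔ ∃ a c, g = x a * z c
  mem_B : ∀ g, g ∈ B ↔ ∃ b c, g = y b * z c
  comm : ∀ a b, x a * y b * (x a)⁻¹ * (y b)⁻¹ = z (a * b)

end Cfsg.Agent.TypeL3.Local
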