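import Mathlib
import Cfsg.Agent.TypeL3.Local
import Cfsg.Agent.Solvable.Glauberman
import Cfsg.Agent.LieExceptional.PlaneMap

/-!
# Type `L₃(q)`, `q` even: the back end

`nonempty_psl`: a finite simple group with `LThreeLocal` and `LThreeCoord` data is `PSL₃(F)`.
-/

set_option autoImplicit false
set_option linter.unusedSectionVars false

namespace Cfsg.Agent.TypeL3.Back

open Subgroup Cfsg.Agent.TypeL3.Local

/-! ### Conjugates of the two elementary abelian subgroups: transport and trivial intersection -/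

section Cj

variable {G : Type*} [Group G]

/-- the conjugate subgroup `g X g⁻¹` -/
def cj (g : G) (X : Subgroup G) : Subgroup G := X.map (MulAut.conj g).toMonoidHom

theorem mem_cj {g x : G} {X : Subgroup G} : x ∈ cj g X ↔ g⁻¹ * x * g ∈ X := by
  constructor
  · rintro ⟨y, hy, rfl⟩
    have : g⁻¹ * (MulAut.conj g).toMonoidHom y * g = y := by
      simp [mul_assoc]
    rw [this]
    exact hy
  · intro h
    exact ⟨_, h, by simp [mul_assoc]⟩

theorem conj_mem_cj {g x : G} {X : Subgroup G} (h : x ∈ X) : g * x * g⁻¹ ∈ cj g X := by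
  rw [mem_cj]
  have : g⁻¹ * (g * x * g⁻¹) * g = x := by group
  rw [this]
  exact h

theorem conj_mem_cj_iff {g x : G} {X : Subgroup G} : g * x * g⁻¹ ∈ cj g X ↔ x ∈ X := by
  rw [mem_cj]
  have : g⁻¹ * (g * x * g⁻¹) * g = x := by group
  rw [this]

theorem exists_of_mem_cj {g x : G} {X : Subgroup G} (h : x ∈ cj g X) : ∃ y ∈ X, x = g * y * g⁻¹ :=
  ⟨_, mem_cj.1 h, by group⟩

theorem cj_one (X : Subgroup G) : cj 1 X = X := by
  ext x
  rw [mem_cj]
  simp

theorem cj_cj (g h : G) (X : Subgroup G) : cj g (cj h X) = cj (g * h) X := by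
  ext x
  rw [mem_cj, mem_cj, mem_cj]
  have : h⁻¹ * (g⁻¹ * x * g) * h = (g * h)⁻¹ * x * (g * h) := by group
  rw [this]

theorem cj_inv_cj (g : G) (X : Subgroup G) : cj g⁻¹ (cj g X) = X := by
  rw [cj_cj, inv_mul_cancel, cj_one]

theorem cj_cj_inv (g : G) (X : Subgroup G) : cj g (cj g⁻¹ X) = X := by
  rw [cj_cj, mul_inv_cancel, cj_one]

theorem cj_inj {g : G} {X Y : Subgroup G} : cj g X = cj g Y ↔ X = Y := by
  constructor
  · intro h
    rw [← cj_inv_cj g X, h, cj_inv_cj]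
  · rintro rfl
    rfl

theorem cj_eq_iff {g : G} {X Y : Subgroup G} : cj g X = Y ↔ X = cj g⁻¹ Y := by
  constructor
  · rintro rfl
    rw [cj_inv_cj]
  · rintro rfl
    rw [cj_cj_inv]

theorem mem_normalizer_iff_cj {g : G} {X : Subgroup G} : g ∈ normalizer (X : Set G) ↔ cj g X = X := by
  rw [Subgroup.mem_normalizer_iff]
  constructor
  · intro h
    ext x
    rw [mem_cj]
    have h1 := h (g⁻¹ * x * g)
    have : g * (g⁻¹ * x * g) * g⁻¹ = x := by group
    rw [this] at h1
    exact h1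
  · intro h x
    rw [← conj_mem_cj_iff (g := g) (x := x), h]

theorem card_cj (g : G) (X : Subgroup G) : Nat.card (cj g X) = Nat.card X :=
  Nat.card_congr (X.equivMapOfInjective _ (MulAut.conj g).injective).symm.toEquiv

theorem cj_le_cj {g : G} {X Y : Subgroup G} : cj g X ≤ cj g Y ↔ X ≤ Y := by
  constructor
  · intro h x hx
    exact conj_mem_cj_iff.1 (h (conj_mem_cj (g := g) hx))
  · intro h x hx
    exact mem_cj.2 (h (mem_cj.1 hx))

theorem cj_inf (g : G) (X Y : Subgroup G) : cj g (X ⊓ Y) = cj g X ⊓ cj g Y := by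
  ext x
  simp only [mem_cj, Subgroup.mem_inf]

theorem cj_sup (g : G) (X Y : Subgroup G) : cj g (X ⊔ Y) = cj g X ⊔ cj g Y :=
  Subgroup.map_sup _ _ _

theorem cj_normalizer (g : G) (X : Subgroup G) :
    cj g (normalizer (X : Set G)) = normalizer (cj g X : Set G) := by
  ext x
  rw [mem_cj, mem_normalizer_iff_cj, mem_normalizer_iff_cj, cj_cj]
  constructor
  · intro h
    have : x * g = g * (g⁻¹ * x * g) := by group
    rw [this, ← cj_cj, h]
  · intro h
    have : g⁻¹ * x * g = g⁻¹ * (x * g) := by group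
    rw [this, ← cj_cj, h, cj_inv_cj]

theorem conj_mem_normalizer {g n : G} {X : Subgroup G} (h : n ∈ normalizer (X : Set G)) :
    g * n * g⁻¹ ∈ normalizer (cj g X : Set G) := by
  rw [← cj_normalizer]
  exact conj_mem_cj h

theorem mem_normalizer_cj {g n : G} {X : Subgroup G} :
    n ∈ normalizer (cj g X : Set G) ↔ g⁻¹ * n * g ∈ normalizer (X : Set G) := by
  rw [← cj_normalizer, mem_cj]

theorem conj_ne_one {g x : G} (h : x ≠ 1) : g * x * g⁻¹ ≠ 1 := by
  intro h1
  apply h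
  have : x = g⁻¹ * (g * x * g⁻¹) * g := by group
  rw [this, h1]
  simp

theorem conj_sq {g x : G} (h : x * x = 1) : (g * x * g⁻¹) * (g * x * g⁻¹) = 1 := by
  have : (g * x * g⁻¹) * (g * x * g⁻¹) = g * (x * x) * g⁻¹ := by group
  rw [this, h]
  simp

theorem conj_sq' {g x : G} (h : x * x = 1) : (g⁻¹ * x * g) * (g⁻¹ * x * g) = 1 := by
  have : (g⁻¹ * x * g) * (g⁻¹ * x * g) = g⁻¹ * (x * x) * g := by group
  rw [this, h]
  simp

theorem conj_ne_one' {g x : G} (h : x ≠ 1) : g⁻¹ * x * g ≠ 1 := by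
  intro h1
  apply h
  have : x = g * (g⁻¹ * x * g) * g⁻¹ := by group
  rw [this, h1]
  simp

/-- a subgroup contained in a union of two subgroups is contained in one of them -/
theorem le_or_le_of_union {X A B : Subgroup G} (h : ∀ x ∈ X, x ∈ A ∨ x ∈ B) : X ≤ A ∨ X ≤ B := by
  by_contra hc
  rw [not_or, SetLike.not_le_iff_exists, SetLike.not_le_iff_exists] at hc
  obtain ⟨⟨a, ha, haA⟩, b, hb, hbB⟩ := hc
  have haB := (h a ha).resolve_left haA
  have hbA := (h b hb).resolve_right hbB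
  rcases h (a * b) (X.mul_mem ha hb) with h1 | h1
  · exact haA ((A.mul_mem_cancel_right hbA).1 h1)
  · exact hbB ((B.mul_mem_cancel_left haB).1 h1)

theorem eq_of_le_of_card [Finite G] {X Y : Subgroup G} (h : X ≤ Y) (hc : Nat.card Y = Nat.card X) : X = Y :=
  Subgroup.eq_of_le_of_card_ge h hc.le

variable {A B : Subgroup G} {q : ℕ}

theorem symm [Finite G] (D : LThreeLocal A B q) : LThreeLocal B A q where
  four_le := D.four_le
  even_q := D.even_q
  A_comm := D.B_comm
  B_comm := D.A_comm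
  A_sq := D.B_sq
  B_sq := D.A_sq
  card_A := D.card_B
  card_B := D.card_A
  card_Z := by rw [inf_comm]; exact D.card_Z
  A_le := D.B_le
  B_le := D.A_le
  sylow := by
    obtain ⟨S, hS⟩ := D.sylow
    exact ⟨S, by rw [hS, sup_comm]⟩
  inv_mem := fun s hs h => (D.inv_mem s (by rwa [sup_comm]) h).symm
  trans_A := D.trans_B
  trans_B := D.trans_A
  H1 := fun g hg hg' z hz h => D.H2 g hg hg' z (by rwa [inf_comm]) (by rwa [inf_comm])
  H2 := fun g hg hg' z hz h => D.H1 g hg hg' z (by rwa [inf_comm]) (by rwa [inf_comm])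
  cent_Z := fun z hz h1 => by
    rw [inf_comm]
    exact D.cent_Z z (by rwa [inf_comm]) h1
  not_conj := by
    intro g
    by_contra h
    push Not at h
    have h1 : cj g B ≤ A := by
      intro x hx
      obtain ⟨y, hy, rfl⟩ := exists_of_mem_cj hx
      exact h y hy
    have h2 : cj g B = A := eq_of_le_of_card h1 (by rw [card_cj, D.card_A, D.card_B])
    obtain ⟨a, ha, hab⟩ := D.not_conj g⁻¹
    apply hab
    rw [← h2] at ha
    have := mem_cj.1 ha
    rwa [inv_inv]

theorem conj (D : LThreeLocal A B q) (g : G) : LThreeLocal (cj g A) (cj g B) q where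
  four_le := D.four_le
  even_q := D.even_q
  A_comm := by
    intro a ha b hb
    obtain ⟨a, ha', rfl⟩ := exists_of_mem_cj ha
    obtain ⟨b, hb', rfl⟩ := exists_of_mem_cj hb
    have h1 : g * a * g⁻¹ * (g * b * g⁻¹) = g * (a * b) * g⁻¹ := by group
    have h2 : g * b * g⁻¹ * (g * a * g⁻¹) = g * (b * a) * g⁻¹ := by group
    rw [h1, h2, D.A_comm a ha' b hb']
  B_comm := by
    intro a ha b hb
    obtain ⟨a, ha', rfl⟩ := exists_of_mem_cj ha
    obtain ⟨b, hb', rfl⟩ := exists_of_mem_cj hb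
    have h1 : g * a * g⁻¹ * (g * b * g⁻¹) = g * (a * b) * g⁻¹ := by group
    have h2 : g * b * g⁻¹ * (g * a * g⁻¹) = g * (b * a) * g⁻¹ := by group
    rw [h1, h2, D.B_comm a ha' b hb']
  A_sq := by
    intro a ha
    obtain ⟨a, ha', rfl⟩ := exists_of_mem_cj ha
    exact conj_sq (D.A_sq a ha')
  B_sq := by
    intro a ha
    obtain ⟨a, ha', rfl⟩ := exists_of_mem_cj ha
    exact conj_sq (D.B_sq a ha')
  card_A := by rw [card_cj, D.card_A]
  card_B := by rw [card_cj, D.card_B]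
  card_Z := by rw [← cj_inf, card_cj, D.card_Z]
  A_le := by
    rw [← cj_normalizer, cj_le_cj]
    exact D.A_le
  B_le := by
    rw [← cj_normalizer, cj_le_cj]
    exact D.B_le
  sylow := by
    obtain ⟨S, hS⟩ := D.sylow
    refine ⟨g • S, ?_⟩
    rw [Sylow.coe_subgroup_smul, hS, ← cj_sup]
    rfl
  inv_mem := by
    intro s hs h
    rw [← cj_sup] at hs
    obtain ⟨s, hs', rfl⟩ := exists_of_mem_cj hs
    have h1 : s * s = 1 := by
      have := conj_sq' (g := g) h
      have e : g⁻¹ * (g * s * g⁻¹) * g = s := by group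
      rwa [e] at this
    rcases D.inv_mem s hs' h1 with h | h
    · exact Or.inl (conj_mem_cj h)
    · exact Or.inr (conj_mem_cj h)
  trans_A := by
    intro a ha ha1 b hb hb1
    obtain ⟨n, hn, h⟩ := D.trans_A _ (mem_cj.1 ha) (conj_ne_one' ha1) _ (mem_cj.1 hb) (conj_ne_one' hb1)
    refine ⟨g * n * g⁻¹, conj_mem_normalizer hn, ?_⟩
    have : b = g * (g⁻¹ * b * g) * g⁻¹ := by group
    rw [this, ← h]
    group
  trans_B := by
    intro a ha ha1 b hb hb1
    obtain ⟨n, hn, h⟩ := D.trans_B _ (mem_cj.1 ha) (conj_ne_one' ha1) _ (mem_cj.1 hb) (conj_ne_one' hb1)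
    refine ⟨g * n * g⁻¹, conj_mem_normalizer hn, ?_⟩
    have : b = g * (g⁻¹ * b * g) * g⁻¹ := by group
    rw [this, ← h]
    group
  H1 := by
    intro n hn hn' z hz h
    rw [mem_normalizer_cj] at hn hn'
    rw [← cj_inf, mem_cj] at hz h
    have h1 := D.H1 _ hn hn' _ hz (by
      have e : g⁻¹ * n * g * (g⁻¹ * z * g) * (g⁻¹ * n * g)⁻¹ = g⁻¹ * (n * z * n⁻¹) * g := by group
      rw [e]
      exact h)
    by_contra hz1
    exact conj_ne_one' hz1 h1
  H2 := by
    intro n hn hn' z hz h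
    rw [mem_normalizer_cj] at hn hn'
    rw [← cj_inf, mem_cj] at hz h
    have h1 := D.H2 _ hn hn' _ hz (by
      have e : g⁻¹ * n * g * (g⁻¹ * z * g) * (g⁻¹ * n * g)⁻¹ = g⁻¹ * (n * z * n⁻¹) * g := by group
      rw [e]
      exact h)
    by_contra hz1
    exact conj_ne_one' hz1 h1
  cent_Z := by
    intro z hz hz1 n hn
    rw [← cj_inf, mem_cj] at hz
    rw [Subgroup.mem_centralizer_singleton_iff] at hn
    have h1 := D.cent_Z _ hz (conj_ne_one' hz1) (x := g⁻¹ * n * g) (by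
      rw [Subgroup.mem_centralizer_singleton_iff]
      have e1 : g⁻¹ * n * g * (g⁻¹ * z * g) = g⁻¹ * (n * z) * g := by group
      have e2 : g⁻¹ * z * g * (g⁻¹ * n * g) = g⁻¹ * (z * n) * g := by group
      rw [e1, e2, hn])
    exact ⟨mem_normalizer_cj.2 h1.1, mem_normalizer_cj.2 h1.2⟩
  not_conj := by
    intro k
    obtain ⟨a, ha, hab⟩ := D.not_conj (g⁻¹ * k * g)
    refine ⟨g * a * g⁻¹, conj_mem_cj ha, ?_⟩
    rw [mem_cj]
    have : g⁻¹ * (k * (g * a * g⁻¹) * k⁻¹) * g = g⁻¹ * k * g * a * (g⁻¹ * k * g)⁻¹ := by group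
    rw [this]
    exact hab

end Cj

/-! ### Points, lines and flags -/

section Flags

variable {G : Type*} [Group G]

/-- `X` is a conjugate of `A` -/
def IsPt (A X : Subgroup G) : Prop := ∃ g : G, cj g A = X

/-- `(X, Y)` is a conjugate of `(A, B)` -/
def Fl (A B X Y : Subgroup G) : Prop := ∃ g : G, cj g A = X ∧ cj g B = Y

/-- collinear -/
def Col (A B X X' : Subgroup G) : Prop := ∃ Y, Fl A B X Y ∧ Fl A B X' Y

variable {A B X X' Y Y' : Subgroup G} {q : ℕ}

theorem IsPt.self (A : Subgroup G) : IsPt A A := ⟨1, cj_one A⟩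

theorem IsPt.cj (h : IsPt A X) (g : G) : IsPt A (cj g X) := by
  obtain ⟨k, rfl⟩ := h
  exact ⟨g * k, by rw [cj_cj]⟩

theorem IsPt.trans (h : IsPt A X) (h' : IsPt X Y) : IsPt A Y := by
  obtain ⟨k, rfl⟩ := h
  obtain ⟨g, rfl⟩ := h'
  exact ⟨g * k, by rw [cj_cj]⟩

theorem IsPt.symm (h : IsPt A X) : IsPt X A := by
  obtain ⟨k, rfl⟩ := h
  exact ⟨k⁻¹, cj_inv_cj _ _⟩

theorem Fl.self (A B : Subgroup G) : Fl A B A B := ⟨1, cj_one A, cj_one B⟩

theorem Fl.pt (h : Fl A B X Y) : IsPt A X := by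
  obtain ⟨k, h, -⟩ := h
  exact ⟨k, h⟩

theorem Fl.ln (h : Fl A B X Y) : IsPt B Y := by
  obtain ⟨k, -, h⟩ := h
  exact ⟨k, h⟩

theorem Fl.symm (h : Fl A B X Y) : Fl B A Y X := by
  obtain ⟨k, h, h'⟩ := h
  exact ⟨k, h', h⟩

theorem Fl.cj (h : Fl A B X Y) (g : G) : Fl A B (cj g X) (cj g Y) := by
  obtain ⟨k, rfl, rfl⟩ := h
  exact ⟨g * k, by rw [cj_cj], by rw [cj_cj]⟩

theorem Fl.inv (h : Fl A B X Y) : Fl X Y A B := by
  obtain ⟨k, rfl, rfl⟩ := h
  exact ⟨k⁻¹, cj_inv_cj _ _, cj_inv_cj _ _⟩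

theorem Fl.trans {X1 Y1 : Subgroup G} (h : Fl A B X Y) (h' : Fl X Y X1 Y1) : Fl A B X1 Y1 := by
  obtain ⟨k, rfl, rfl⟩ := h
  obtain ⟨g, rfl, rfl⟩ := h'
  exact ⟨g * k, by rw [cj_cj], by rw [cj_cj]⟩

theorem Fl.local (h : Fl A B X Y) (D : LThreeLocal A B q) : LThreeLocal X Y q := by
  obtain ⟨k, rfl, rfl⟩ := h
  exact conj D k

/-- changing the base flag does not change the flags -/
theorem Fl.base (h : Fl A B X Y) {X1 Y1 : Subgroup G} : Fl A B X1 Y1 ↔ Fl X Y X1 Y1 :=
  ⟨fun h' => h.inv.trans h', fun h' => h.trans h'⟩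

theorem IsPt.base (h : IsPt A X) {X1 : Subgroup G} : IsPt A X1 ↔ IsPt X X1 :=
  ⟨fun h' => h.symm.trans h', fun h' => h.trans h'⟩

theorem Col.symm' (h : Col A B X X') : Col A B X' X := by
  obtain ⟨Y, h1, h2⟩ := h
  exact ⟨Y, h2, h1⟩

theorem Col.cj (h : Col A B X X') (g : G) : Col A B (cj g X) (cj g X') := by
  obtain ⟨Y, h1, h2⟩ := h
  exact ⟨_, h1.cj g, h2.cj g⟩

theorem isPGroup_zpowers {w : G} (hw : w * w = 1) : IsPGroup 2 (zpowers w) := by
  have h2 : w ^ 2 = 1 := by rw [pow_two, hw]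
  by_cases h : w = 1
  · rw [h]
    apply IsPGroup.of_card (n := 0)
    simp
  · apply IsPGroup.of_card (n := 1)
    rw [Nat.card_zpowers, orderOf_eq_prime h2 h, pow_one]

variable [Finite G] (D : LThreeLocal A B q)
include D

theorem mem_of_norm {w : G} (hA : w ∈ normalizer (A : Set G)) (hB : w ∈ normalizer (B : Set G)) (hw : w * w = 1) :
    w ∈ A ∨ w ∈ B := by
  obtain ⟨S, hS⟩ := D.sylow
  have hp : IsPGroup 2 (zpowers w) := isPGroup_zpowers hw
  have hn : w ∈ normalizer ((S : Subgroup G) : Set G) := by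
    rw [mem_normalizer_iff_cj, hS, cj_sup, mem_normalizer_iff_cj.1 hA, mem_normalizer_iff_cj.1 hB]
  have h1 := hp.inf_normalizer_sylow S
  have h2 : w ∈ zpowers w ⊓ normalizer ((S : Subgroup G) : Set G) := ⟨mem_zpowers w, hn⟩
  have h2 : w ∈ zpowers w ⊓ (S : Subgroup G) := h1 ▸ h2
  exact D.inv_mem w (hS ▸ h2.2) hw

theorem exists_z : ∃ z ∈ A ⊓ B, z ≠ 1 := by
  by_contra h
  push Not at h
  have h1 : A ⊓ B = ⊥ := by
    rw [eq_bot_iff]
    intro z hz
    exact Subgroup.mem_bot.2 (h z hz)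
  have h2 := D.card_Z
  rw [h1, Subgroup.card_bot] at h2
  have := D.four_le
  omega

theorem ti_Z {z h : G} (hz : z ∈ A ⊓ B) (hz1 : z ≠ 1) (hh : z ∈ cj h A) : cj h A = A := by
  have h1 : ∀ y ∈ cj h A, y ∈ A ∨ y ∈ B := by
    intro y hy
    have hc : y ∈ centralizer {z} := by
      rw [Subgroup.mem_centralizer_singleton_iff]
      exact (conj D h).A_comm y hy z hh
    have h2 := D.cent_Z z hz hz1 hc
    exact mem_of_norm D h2.1 h2.2 ((conj D h).A_sq y hy)
  rcases le_or_le_of_union h1 with h2 | h2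
  · exact eq_of_le_of_card h2 (by rw [card_cj])
  · exfalso
    obtain ⟨a, ha, hab⟩ := D.not_conj h
    exact hab (h2 (conj_mem_cj ha))

theorem ti {x g : G} (hx1 : x ≠ 1) (hx : x ∈ A) (hg : x ∈ cj g A) : cj g A = A := by
  obtain ⟨z, hz, hz1⟩ := exists_z D
  obtain ⟨n, hn, hnx⟩ := D.trans_A x hx hx1 z hz.1 hz1
  have h1 : z ∈ cj (n * g) A := by
    rw [← cj_cj, ← hnx]
    exact conj_mem_cj hg
  have h2 := ti_Z D hz hz1 h1
  rw [← cj_cj] at h2
  rw [cj_eq_iff] at h2
  rw [h2, cj_eq_iff, inv_inv]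
  exact (mem_normalizer_iff_cj.1 hn).symm

theorem pt_ti {x : G} (hX : IsPt A X) (hX' : IsPt A X') (hx1 : x ≠ 1) (hx : x ∈ X) (hx' : x ∈ X') : X = X' := by
  obtain ⟨g, rfl⟩ := hX
  obtain ⟨h, rfl⟩ := hX'
  have h1 := ti (conj D g) (g := h * g⁻¹) hx1 hx (by rw [cj_cj, inv_mul_cancel_right]; exact hx')
  rw [cj_cj, inv_mul_cancel_right] at h1
  exact h1.symm

theorem ln_ti {x : G} (hX : IsPt B X) (hX' : IsPt B X') (hx1 : x ≠ 1) (hx : x ∈ X) (hx' : x ∈ X') : X = X' :=
  pt_ti (symm D) hX hX' hx1 hx hx'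

theorem exists_flag {u : G} (hu : u * u = 1) (hu1 : u ≠ 1) : ∃ X Y, Fl A B X Y ∧ u ∈ X ∧ u ∈ Y := by
  obtain ⟨S, hS⟩ := D.sylow
  have hp : IsPGroup 2 (zpowers u) := isPGroup_zpowers hu
  obtain ⟨P, hP⟩ := hp.exists_le_sylow
  obtain ⟨g, hg⟩ := MulAction.exists_smul_eq G S P
  have h1 : u ∈ cj g (A ⊔ B) := by
    rw [← hS]
    have h2 : (P : Subgroup G) = cj g (S : Subgroup G) := by
      rw [← hg, Sylow.coe_subgroup_smul]
      rfl
    rw [← h2]
    exact hP (mem_zpowers u)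
  rw [mem_cj] at h1
  obtain ⟨z, hz, hz1⟩ := exists_z D
  rcases D.inv_mem _ h1 (conj_sq' hu) with h2 | h2
  · obtain ⟨n, hn, hnu⟩ := D.trans_A _ h2 (conj_ne_one' hu1) z hz.1 hz1
    have h3 : u = (g * n⁻¹) * z * (g * n⁻¹)⁻¹ := by
      rw [← hnu]
      group
    refine ⟨cj (g * n⁻¹) A, cj (g * n⁻¹) B, ⟨_, rfl, rfl⟩, ?_, ?_⟩
    · rw [h3]
      exact conj_mem_cj hz.1
    · rw [h3]
      exact conj_mem_cj hz.2
  · obtain ⟨n, hn, hnu⟩ := D.trans_B _ h2 (conj_ne_one' hu1) z hz.2 hz1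
    have h3 : u = (g * n⁻¹) * z * (g * n⁻¹)⁻¹ := by
      rw [← hnu]
      group
    refine ⟨cj (g * n⁻¹) A, cj (g * n⁻¹) B, ⟨_, rfl, rfl⟩, ?_, ?_⟩
    · rw [h3]
      exact conj_mem_cj hz.1
    · rw [h3]
      exact conj_mem_cj hz.2

theorem pt_sq (hX : IsPt A X) {x : G} (hx : x ∈ X) : x * x = 1 := by
  obtain ⟨g, rfl⟩ := hX
  exact (conj D g).A_sq x hx

theorem pt_comm (hX : IsPt A X) {x y : G} (hx : x ∈ X) (hy : y ∈ X) : x * y = y * x := by
  obtain ⟨g, rfl⟩ := hX
  exact (conj D g).A_comm x hx y hy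

theorem fl_of_mem {x : G} (hX : IsPt A X) (hY : IsPt B Y) (hx1 : x ≠ 1) (hx : x ∈ X) (hy : x ∈ Y) :
    Fl A B X Y := by
  obtain ⟨X1, Y1, hf, h1, h2⟩ := exists_flag D (pt_sq D hX hx) hx1
  rw [pt_ti D hX hf.pt hx1 hx h1, ln_ti D hY hf.ln hx1 hy h2]
  exact hf

theorem fl_of_comm {a c : G} (ha1 : a ≠ 1) (hc1 : c ≠ 1) (hac : a * c = c * a)
    (hX : IsPt A X) (haX : a ∈ X) {X0 Y0 : Subgroup G} (hf : Fl A B X0 Y0) (hcX : c ∈ X0) (hcY : c ∈ Y0) :
    Fl A B X Y0 := by
  have D0 := hf.local D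
  have h1 : a ∈ centralizer {c} := by
    rw [Subgroup.mem_centralizer_singleton_iff]
    exact hac
  have h2 := D0.cent_Z c ⟨hcX, hcY⟩ hc1 h1
  rcases mem_of_norm D0 h2.1 h2.2 (pt_sq D hX haX) with h3 | h3
  · rw [pt_ti D hX hf.pt ha1 haX h3]
    exact hf
  · exact fl_of_mem D hX hf.ln ha1 haX h3

theorem exists_ne_one (hX : IsPt A X) : ∃ x ∈ X, x ≠ 1 := by
  obtain ⟨g, rfl⟩ := hX
  obtain ⟨z, hz, hz1⟩ := exists_z (conj D g)
  exact ⟨z, hz.1, hz1⟩

theorem mem_line_of_norm (hXY : Fl A B X Y) (hX'Y : Fl A B X' Y) (hne : X ≠ X') {a : G} (ha : a ∈ X)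
    (hn : a ∈ normalizer (X' : Set G)) : a ∈ Y := by
  have D' := hX'Y.local D
  rcases mem_of_norm D' hn ((hXY.local D).A_le ha) (pt_sq D hXY.pt ha) with h | h
  · by_cases ha1 : a = 1
    · rw [ha1]
      exact Y.one_mem
    · exact absurd (pt_ti D hXY.pt hX'Y.pt ha1 ha h) hne
  · exact h

theorem unique_line (hne : X ≠ X') (h1 : Fl A B X Y) (h2 : Fl A B X' Y) (h3 : Fl A B X Y') (h4 : Fl A B X' Y') :
    Y = Y' := by
  obtain ⟨v, hv, hv1⟩ := exists_z (h3.local D)
  have h5 : v ∈ normalizer (X' : Set G) := (h4.local D).B_le hv.2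
  have h6 := mem_line_of_norm D h1 h2 hne hv.1 h5
  exact ln_ti D h1.ln h3.ln hv1 h6 hv.2

theorem unique_point (hne : Y ≠ Y') (h1 : Fl A B X Y) (h2 : Fl A B X' Y) (h3 : Fl A B X Y') (h4 : Fl A B X' Y') :
    X = X' := by
  by_contra h
  exact hne (unique_line D h h1 h2 h3 h4)

theorem exists_comm_of_norm (hX : IsPt A X) {u : G} (hu : u * u = 1) (hn : u ∈ normalizer (X : Set G)) :
    ∃ a ∈ X, a ≠ 1 ∧ a * u = u * a := by
  obtain ⟨a, ha, ha1⟩ := exists_ne_one D hX
  have hu' : u⁻¹ = u := inv_eq_of_mul_eq_one_left hu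
  by_cases h : u * a * u = a
  · refine ⟨a, ha, ha1, ?_⟩
    calc a * u = u * a * u * u := by rw [h]
      _ = u * a := by rw [mul_assoc, hu, mul_one]
  · have h1 : u * a * u ∈ X := by
      have := (Subgroup.mem_normalizer_iff.1 hn a).1 ha
      rwa [hu'] at this
    refine ⟨a * (u * a * u), X.mul_mem ha h1, ?_, ?_⟩
    · intro h2
      apply h
      have h3 : u * a * u = a⁻¹ := (inv_eq_of_mul_eq_one_right h2).symm
      rw [h3]
      exact inv_eq_of_mul_eq_one_left (pt_sq D hX ha)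
    · calc a * (u * a * u) * u = a * (u * a) := by
            rw [mul_assoc, mul_assoc (u * a) u u, hu, mul_one]
        _ = a * (u * a) * (u * u) := by rw [hu, mul_one]
        _ = a * (u * a * u) * u := by group
        _ = (u * a * u) * a * u := by rw [pt_comm D hX ha h1]
        _ = u * (a * (u * a * u)) := by group

theorem col_of_comm {u a b : G} (hu : u * u = 1) (hu1 : u ≠ 1) (hX : IsPt A X) (hX' : IsPt A X') (ha : a ∈ X)
    (ha1 : a ≠ 1) (hb : b ∈ X') (hb1 : b ≠ 1) (hau : a * u = u * a) (hbu : b * u = u * b) : Col A B X X' := by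
  obtain ⟨X0, Y0, hf, h1, h2⟩ := exists_flag D hu hu1
  exact ⟨Y0, fl_of_comm D ha1 hu1 hau hX ha hf h1 h2, fl_of_comm D hb1 hu1 hbu hX' hb hf h1 h2⟩

theorem col_of_norm {u : G} (hu : u * u = 1) (hu1 : u ≠ 1) (hX : IsPt A X) (hX' : IsPt A X')
    (hn : u ∈ normalizer (X : Set G)) (hn' : u ∈ normalizer (X' : Set G)) : Col A B X X' := by
  obtain ⟨a, ha, ha1, hau⟩ := exists_comm_of_norm D hX hu hn
  obtain ⟨b, hb, hb1, hbu⟩ := exists_comm_of_norm D hX' hu hn'
  exact col_of_comm D hu hu1 hX hX' ha ha1 hb hb1 hau hbu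

theorem odd_card (hX : IsPt A X) (hX' : IsPt A X') (hnc : ¬ Col A B X X') :
    Odd (Nat.card (normalizer (X : Set G) ⊓ normalizer (X' : Set G) : Subgroup G)) := by
  rw [← Nat.not_even_iff_odd]
  intro he
  obtain ⟨⟨u, hu⟩, hu2⟩ := exists_prime_orderOf_dvd_card' (G := (normalizer (X : Set G) ⊓ normalizer (X' : Set G) :
    Subgroup G)) 2 he.two_dvd
  rw [Subgroup.orderOf_mk] at hu2
  have h1 : u * u = 1 := by
    rw [← pow_two, ← hu2]
    exact pow_orderOf_eq_one u
  have h2 : u ≠ 1 := by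
    rintro rfl
    rw [orderOf_one] at hu2
    omega
  exact hnc (col_of_norm D h1 h2 hX hX' hu.1 hu.2)

theorem odd_orderOf_mul (hX : IsPt A X) (hX' : IsPt A X') (hnc : ¬ Col A B X X') {a b : G} (ha : a ∈ X)
    (ha1 : a ≠ 1) (hb : b ∈ X') (hb1 : b ≠ 1) : Odd (orderOf (a * b)) := by
  rw [← Nat.not_even_iff_odd]
  rintro ⟨k, hk⟩
  have ha2 := pt_sq D hX ha
  have hb2 := pt_sq D hX' hb
  have ha' : a⁻¹ = a := inv_eq_of_mul_eq_one_left ha2
  have hb' : b⁻¹ = b := inv_eq_of_mul_eq_one_left hb2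
  have hk0 : 0 < k := by
    have := orderOf_pos (a * b)
    omega
  set c := (a * b) ^ k with hc
  have hc2 : c * c = 1 := by
    rw [hc, ← pow_add, ← hk]
    exact pow_orderOf_eq_one _
  have hc1 : c ≠ 1 := by
    intro h
    have := orderOf_dvd_of_pow_eq_one h
    have := Nat.le_of_dvd hk0 this
    omega
  have hc' : c⁻¹ = c := inv_eq_of_mul_eq_one_left hc2
  have e1 : a * (a * b) * a⁻¹ = (a * b)⁻¹ := by
    rw [mul_inv_rev, ha', hb', ← mul_assoc, ha2, one_mul]
  have e2 : b⁻¹ * (a * b) * b = (a * b)⁻¹ := by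
    rw [mul_inv_rev, ha', hb', mul_assoc, mul_assoc, hb2, mul_one]
  have h1 : a * c * a⁻¹ = c := by
    rw [hc, ← conj_pow, e1, inv_pow, ← hc, hc']
  have h2 : b * c * b⁻¹ = c := by
    have : b⁻¹ * c * b⁻¹⁻¹ = c := by
      rw [hc, ← conj_pow, inv_inv, e2, inv_pow, ← hc, hc']
    rw [inv_inv] at this
    calc b * c * b⁻¹ = b * (b⁻¹ * c * b) * b⁻¹ := by rw [this]
      _ = c := by group
  apply hnc
  apply col_of_comm D hc2 hc1 hX hX' ha ha1 hb hb1
  · exact mul_inv_eq_iff_eq_mul.1 h1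
  · exact mul_inv_eq_iff_eq_mul.1 h2

theorem exists_swap (hX : IsPt A X) (hX' : IsPt A X') (hnc : ¬ Col A B X X') {a b : G} (ha : a ∈ X)
    (ha1 : a ≠ 1) (hb : b ∈ X') (hb1 : b ≠ 1) : ∃ t : G, t * t = 1 ∧ t * a * t⁻¹ = b := by
  obtain ⟨k, hk⟩ := odd_orderOf_mul D hX hX' hnc ha ha1 hb hb1
  have ha2 := pt_sq D hX ha
  have hb2 := pt_sq D hX' hb
  have ha' : a⁻¹ = a := inv_eq_of_mul_eq_one_left ha2
  have hb' : b⁻¹ = b := inv_eq_of_mul_eq_one_left hb2
  have e1 : a * (a * b) * a⁻¹ = (a * b)⁻¹ := by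
    rw [mul_inv_rev, ha', hb', ← mul_assoc, ha2, one_mul]
  have e2 : ∀ n : ℕ, a * (a * b) ^ n * a = ((a * b) ^ n)⁻¹ := by
    intro n
    have : (a * (a * b) * a⁻¹) ^ n = ((a * b)⁻¹) ^ n := by rw [e1]
    rw [conj_pow, inv_pow] at this
    rwa [ha'] at this
  refine ⟨(a * b) ^ k * a, ?_, ?_⟩
  · calc (a * b) ^ k * a * ((a * b) ^ k * a) = (a * b) ^ k * (a * (a * b) ^ k * a) := by group
      _ = 1 := by rw [e2, mul_inv_cancel]
  · have h1 : (a * b) ^ (2 * k + 1) = 1 := by
      rw [← hk]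
      exact pow_orderOf_eq_one _
    have h2 : (a * b) ^ (2 * k) = (a * b)⁻¹ := by
      rw [pow_succ] at h1
      exact eq_inv_of_mul_eq_one_left h1
    calc (a * b) ^ k * a * a * ((a * b) ^ k * a)⁻¹ = (a * b) ^ k * (a * a * a) * ((a * b) ^ k)⁻¹ := by
          rw [mul_inv_rev, ha']
          group
      _ = (a * b) ^ k * a * ((a * b) ^ k)⁻¹ := by rw [ha2, one_mul]
      _ = (a * b) ^ k * a * (a * (a * b) ^ k * a) := by rw [e2]
      _ = (a * b) ^ k * (a * a) * (a * b) ^ k * a := by group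
      _ = (a * b) ^ (2 * k) * a := by rw [ha2, mul_one, ← pow_add, two_mul]
      _ = b := by
          rw [h2, mul_inv_rev, ha', hb', mul_assoc, ha2, mul_one]

theorem cj_swap (hX : IsPt A X) (hX' : IsPt A X') {t a b : G} (ha : a ∈ X) (hb : b ∈ X') (hb1 : b ≠ 1)
    (h : t * a * t⁻¹ = b) : cj t X = X' := by
  apply pt_ti D (hX.cj t) hX' hb1 _ hb
  rw [← h]
  exact conj_mem_cj ha

theorem trans_inf (hX : IsPt A X) (hX' : IsPt A X') (hnc : ¬ Col A B X X') {a b : G} (ha : a ∈ X)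
    (ha1 : a ≠ 1) (hb : b ∈ X) (hb1 : b ≠ 1) :
    ∃ d ∈ normalizer (X : Set G) ⊓ normalizer (X' : Set G), d * a * d⁻¹ = b := by
  obtain ⟨c, hc, hc1⟩ := exists_ne_one D hX'
  obtain ⟨t, ht, hta⟩ := exists_swap D hX hX' hnc ha ha1 hc hc1
  obtain ⟨s, hs, hsb⟩ := exists_swap D hX hX' hnc hb hb1 hc hc1
  have hs' : s⁻¹ = s := inv_eq_of_mul_eq_one_left hs
  have ht' : t⁻¹ = t := inv_eq_of_mul_eq_one_left ht
  have h1 : cj t X = X' := cj_swap D hX hX' ha hc hc1 hta
  have h2 : cj s X = X' := cj_swap D hX hX' hb hc hc1 hsb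
  have h3 : cj t X' = X := by rw [← h1, cj_cj, ht, cj_one]
  have h4 : cj s X' = X := by rw [← h2, cj_cj, hs, cj_one]
  refine ⟨s * t, Subgroup.mem_inf.2 ⟨?_, ?_⟩, ?_⟩
  · rw [mem_normalizer_iff_cj, ← cj_cj, h1, h4]
  · rw [mem_normalizer_iff_cj, ← cj_cj, h3, h2]
  · calc s * t * a * (s * t)⁻¹ = s * (t * a * t⁻¹) * s⁻¹ := by group
      _ = s⁻¹ * c * s := by rw [hta, hs']
      _ = b := by rw [← hsb]; group

end Flags

/-! ### Orders and the numbers of points and lines -/

section Count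

variable {G : Type*} [Group G]

theorem card_eq_relIndex_mul (H K : Subgroup G) : Nat.card H = K.relIndex H * Nat.card (H ⊓ K : Subgroup G) := by
  have h := Subgroup.relIndex_mul_relIndex (⊥ : Subgroup G) (K ⊓ H) H bot_le inf_le_right
  rw [relIndex_bot_left, relIndex_bot_left, inf_relIndex_right] at h
  rw [inf_comm H K, mul_comm, h]

theorem relIndex_eq_ncard {α : Type*} (H K : Subgroup G) (f : G → α)
    (hf : ∀ h ∈ H, ∀ h' ∈ H, f h = f h' ↔ h⁻¹ * h' ∈ K) : K.relIndex H = (f '' (H : Set G)).ncard := by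
  rw [relIndex, index, ← Nat.card_coe_set_eq]
  have key : ∀ a b : H, QuotientGroup.leftRel (K.subgroupOf H) a b ↔ f a = f b := by
    intro a b
    rw [QuotientGroup.leftRel_apply, Subgroup.mem_subgroupOf, hf a a.2 b b.2]
    simp
  refine Nat.card_eq_of_bijective (Quotient.lift (fun h : H => (⟨f h, h, h.2, rfl⟩ : f '' (H : Set G)))
    (fun a b h => Subtype.ext ((key a b).1 h))) ⟨?_, ?_⟩
  · rintro ⟨a⟩ ⟨b⟩ h
    exact Quotient.sound ((key a b).2 (congrArg Subtype.val h))
  · rintro ⟨_, a, ha, rfl⟩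
    exact ⟨Quotient.mk _ ⟨a, ha⟩, rfl⟩

theorem conj_eq_iff {h h' x : G} : h * x * h⁻¹ = h' * x * h'⁻¹ ↔ h⁻¹ * h' ∈ centralizer {x} := by
  rw [Subgroup.mem_centralizer_singleton_iff]
  constructor
  · intro e
    calc h⁻¹ * h' * x = h⁻¹ * (h' * x * h'⁻¹) * h' := by group
      _ = h⁻¹ * (h * x * h⁻¹) * h' := by rw [e]
      _ = x * (h⁻¹ * h') := by group
  · intro e
    calc h * x * h⁻¹ = h * (x * (h⁻¹ * h')) * h'⁻¹ := by group
      _ = h * (h⁻¹ * h' * x) * h'⁻¹ := by rw [e]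
      _ = h' * x * h'⁻¹ := by group

theorem cj_eq_cj_iff {h h' : G} {X : Subgroup G} : cj h X = cj h' X ↔ h⁻¹ * h' ∈ normalizer (X : Set G) := by
  rw [mem_normalizer_iff_cj, ← cj_cj, eq_comm]
  constructor
  · intro e
    rw [e, cj_inv_cj]
  · intro e
    have : cj h (cj h⁻¹ (cj h' X)) = cj h X := by rw [e]
    rwa [cj_cj_inv] at this

/-- a group acting transitively on the nontrivial elements of `X` -/
theorem card_trans [Finite G] {H X : Subgroup G} (hH : H ≤ normalizer (X : Set G)) {x : G} (hx : x ∈ X) (hx1 : x ≠ 1)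
    (ht : ∀ y ∈ X, y ≠ 1 → ∃ h ∈ H, h * x * h⁻¹ = y) :
    Nat.card H = (Nat.card X - 1) * Nat.card (H ⊓ centralizer {x} : Subgroup G) := by
  rw [card_eq_relIndex_mul H (centralizer {x}), relIndex_eq_ncard H (centralizer {x}) (fun g => g * x * g⁻¹)
    (fun h _ h' _ => conj_eq_iff)]
  congr 1
  have h1 : (fun g => g * x * g⁻¹) '' (H : Set G) = (X : Set G) \ {1} := by
    ext y
    constructor
    · rintro ⟨g, hg, rfl⟩
      exact ⟨(Subgroup.mem_normalizer_iff.1 (hH hg) x).1 hx, conj_ne_one hx1⟩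
    · rintro ⟨hy, hy1⟩
      obtain ⟨h, hh, e⟩ := ht y hy hy1
      exact ⟨h, hh, e⟩
  rw [h1, Set.ncard_sdiff_singleton_of_mem X.one_mem]
  rfl

variable {A B X X' Y Y' : Subgroup G} {q : ℕ}
variable [Finite G] (D : LThreeLocal A B q)
include D

theorem trans_Z {z z' : G} (hz : z ∈ A ⊓ B) (hz1 : z ≠ 1) (hz' : z' ∈ A ⊓ B) (hz1' : z' ≠ 1) :
    ∃ h ∈ normalizer (A : Set G) ⊓ normalizer (B : Set G), h * z * h⁻¹ = z' := by
  obtain ⟨g, hg, e⟩ := D.trans_A z hz.1 hz1 z' hz'.1 hz1'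
  refine ⟨g, ⟨hg, ?_⟩, e⟩
  by_contra h
  exact hz1 (D.H1 g hg h z hz (by rw [e]; exact hz'))

theorem card_norm {z : G} (hz : z ∈ A ⊓ B) (hz1 : z ≠ 1) :
    Nat.card (normalizer (A : Set G)) = (q ^ 2 - 1) * Nat.card (centralizer {z} : Subgroup G) := by
  rw [card_trans le_rfl hz.1 hz1 (fun y hy hy1 => D.trans_A z hz.1 hz1 y hy hy1), D.card_A,
    inf_eq_right.2 ((D.cent_Z z hz hz1).trans inf_le_left)]

theorem card_norm_inf {z : G} (hz : z ∈ A ⊓ B) (hz1 : z ≠ 1) :
    Nat.card (normalizer (A : Set G) ⊓ normalizer (B : Set G) : Subgroup G) =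
      (q - 1) * Nat.card (centralizer {z} : Subgroup G) := by
  have h : normalizer (A : Set G) ⊓ normalizer (B : Set G) ≤ normalizer ((A ⊓ B : Subgroup G) : Set G) := by
    intro g hg
    rw [mem_normalizer_iff_cj, cj_inf, mem_normalizer_iff_cj.1 hg.1, mem_normalizer_iff_cj.1 hg.2]
  rw [card_trans h hz hz1 (fun y hy hy1 => trans_Z D hz hz1 hy hy1), D.card_Z, inf_eq_right.2 (D.cent_Z z hz hz1)]

theorem sq_sub : q ^ 2 - 1 = (q + 1) * (q - 1) := by
  have := D.four_le
  obtain ⟨k, rfl⟩ : ∃ k, q = k + 1 := ⟨q - 1, by omega⟩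
  simp only [Nat.add_sub_cancel]
  have : (k + 1) ^ 2 = (k + 1 + 1) * k + 1 := by ring
  omega

theorem relIndex_AB : (normalizer (B : Set G)).relIndex (normalizer (A : Set G)) = q + 1 := by
  obtain ⟨z, hz, hz1⟩ := exists_z D
  have h1 := card_eq_relIndex_mul (normalizer (A : Set G)) (normalizer (B : Set G))
  rw [card_norm D hz hz1, card_norm_inf D hz hz1, sq_sub D, mul_assoc] at h1
  have h2 : 0 < (q - 1) * Nat.card (centralizer {z} : Subgroup G) := by
    have := D.four_le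
    have : 0 < Nat.card (centralizer {z} : Subgroup G) := Nat.card_pos
    have : 0 < q - 1 := by omega
    positivity
  exact (Nat.eq_of_mul_eq_mul_right h2 h1).symm

theorem ncard_lines_self : {L : Subgroup G | Fl A B A L}.ncard = q + 1 := by
  rw [← relIndex_AB D, relIndex_eq_ncard _ _ (fun g => cj g B) (fun h _ h' _ => cj_eq_cj_iff)]
  congr 1
  ext L
  constructor
  · rintro ⟨g, hg, rfl⟩
    exact ⟨g, mem_normalizer_iff_cj.2 hg, rfl⟩
  · rintro ⟨g, hg, rfl⟩
    exact ⟨g, mem_normalizer_iff_cj.1 hg, rfl⟩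

theorem ncard_lines (hX : IsPt A X) : {L : Subgroup G | Fl A B X L}.ncard = q + 1 := by
  obtain ⟨g, rfl⟩ := hX
  have D' := conj D g
  rw [← ncard_lines_self D']
  congr 1
  ext L
  exact (Fl.base ⟨g, rfl, rfl⟩)

theorem ncard_points (hY : IsPt B Y) : {X : Subgroup G | Fl A B X Y}.ncard = q + 1 := by
  rw [← ncard_lines (symm D) hY]
  congr 1
  ext X
  exact ⟨Fl.symm, Fl.symm⟩

/-- the group of a point acts transitively on the other points of every line through it -/
theorem trans_pt (hX : Fl A B X B) (hX' : Fl A B X' B) (h : X ≠ A) (h' : X' ≠ A) : ∃ a ∈ A, cj a X = X' := by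
  have h1 : (A ⊓ normalizer (X : Set G) : Subgroup G) = A ⊓ B := by
    apply le_antisymm
    · intro a ha
      exact ⟨ha.1, mem_line_of_norm D (Fl.self A B) hX (Ne.symm h) ha.1 ha.2⟩
    · intro a ha
      exact ⟨ha.1, (hX.local D).B_le ha.2⟩
  have h2 := card_eq_relIndex_mul A (normalizer (X : Set G))
  rw [h1, D.card_Z, D.card_A, pow_two] at h2
  have h3 : (normalizer (X : Set G)).relIndex A = q := by
    have := D.four_le
    exact (Nat.eq_of_mul_eq_mul_right (by omega) h2).symm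
  rw [relIndex_eq_ncard _ _ (fun g => cj g X) (fun h _ h' _ => cj_eq_cj_iff)] at h3
  have h4 : (fun g => cj g X) '' (A : Set G) ⊆ {X : Subgroup G | Fl A B X B} \ {A} := by
    rintro _ ⟨a, ha, rfl⟩
    have e1 : cj a A = A := mem_normalizer_iff_cj.1 (le_normalizer ha)
    have e2 : cj a B = B := mem_normalizer_iff_cj.1 (D.A_le ha)
    refine ⟨?_, ?_⟩
    · have := hX.cj a
      rw [e2] at this
      exact this
    · intro e
      apply h
      have e' : cj a X = A := e
      rw [← e1] at e'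
      exact cj_inj.1 e'
  have h5 : ({X : Subgroup G | Fl A B X B} \ {A}).ncard = q := by
    have hm : A ∈ {X : Subgroup G | Fl A B X B} := Fl.self A B
    rw [Set.ncard_sdiff_singleton_of_mem hm, ncard_points D (IsPt.self B)]
    rfl
  have h6 := Set.eq_of_subset_of_ncard_le h4 (by rw [h3, h5]) (Set.toFinite _)
  have h7 : X' ∈ (fun g => cj g X) '' (A : Set G) := by
    rw [h6]
    exact ⟨hX', h'⟩
  obtain ⟨a, ha, e⟩ := h7
  exact ⟨a, ha, e⟩

omit D in
/-- general form of `trans_pt` -/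
theorem trans_points (D : LThreeLocal A B q) {X0 : Subgroup G} (hXY : Fl A B X0 Y) (hX : Fl A B X Y) (hX' : Fl A B X' Y)
    (h : X ≠ X0) (h' : X' ≠ X0) : ∃ a ∈ X0, cj a X = X' :=
  trans_pt (hXY.local D) (hXY.base.1 hX) (hXY.base.1 hX') h h'

omit D in
theorem trans_lines (D : LThreeLocal A B q) {Y0 : Subgroup G} (hXY : Fl A B X Y0) (hY : Fl A B X Y) (hY' : Fl A B X Y')
    (h : Y ≠ Y0) (h' : Y' ≠ Y0) : ∃ a ∈ Y0, cj a Y = Y' :=
  trans_points (Back.symm D) hXY.symm hY.symm hY'.symm h h'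

section pair

variable (hX : IsPt A X) (hX' : IsPt A X') (hnc : ¬ Col A B X X')
include hX hX' hnc

theorem card_pair {a : G} (ha : a ∈ X) (ha1 : a ≠ 1) :
    Nat.card (normalizer (X : Set G) ⊓ normalizer (X' : Set G) : Subgroup G) =
      (q ^ 2 - 1) * Nat.card (normalizer (X : Set G) ⊓ normalizer (X' : Set G) ⊓ centralizer {a} : Subgroup G) := by
  have h1 : Nat.card X = q ^ 2 := by
    obtain ⟨g, rfl⟩ := hX
    rw [card_cj, D.card_A]
  rw [card_trans inf_le_left ha ha1 (fun y hy hy1 => trans_inf D hX hX' hnc ha ha1 hy hy1), h1]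

theorem card_pair_line (hf : Fl A B X Y) {a : G} (ha : a ∈ X ⊓ Y) (ha1 : a ≠ 1) :
    Nat.card (normalizer (X : Set G) ⊓ normalizer (X' : Set G) ⊓ normalizer (Y : Set G) : Subgroup G) =
      (q - 1) * Nat.card (normalizer (X : Set G) ⊓ normalizer (X' : Set G) ⊓ centralizer {a} : Subgroup G) := by
  have D' := hf.local D
  have h : normalizer (X : Set G) ⊓ normalizer (X' : Set G) ⊓ normalizer (Y : Set G) ≤
      normalizer ((X ⊓ Y : Subgroup G) : Set G) := by
    intro g hg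
    rw [mem_normalizer_iff_cj, cj_inf, mem_normalizer_iff_cj.1 hg.1.1, mem_normalizer_iff_cj.1 hg.2]
  rw [card_trans h ha ha1, D'.card_Z]
  · have e : (normalizer (X : Set G) ⊓ normalizer (X' : Set G) ⊓ normalizer (Y : Set G) ⊓ centralizer {a} :
        Subgroup G) = normalizer (X : Set G) ⊓ normalizer (X' : Set G) ⊓ centralizer {a} := by
      apply le_antisymm
      · intro g hg
        exact ⟨hg.1.1, hg.2⟩
      · intro g hg
        exact ⟨⟨hg.1, (D'.cent_Z a ha ha1 hg.2).2⟩, hg.2⟩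
    rw [e]
  · intro y hy hy1
    obtain ⟨d, hd, e⟩ := trans_inf D hX hX' hnc ha.1 ha1 hy.1 hy1
    refine ⟨d, ⟨hd, ?_⟩, e⟩
    by_contra hc
    exact ha1 (D'.H1 d hd.1 hc a ha (by rw [e]; exact hy))

theorem card_pair_eq (hf : Fl A B X Y) :
    Nat.card (normalizer (X : Set G) ⊓ normalizer (X' : Set G) : Subgroup G) =
      (q + 1) * Nat.card (normalizer (X : Set G) ⊓ normalizer (X' : Set G) ⊓ normalizer (Y : Set G) : Subgroup G) := by
  obtain ⟨a, ha, ha1⟩ := exists_z (hf.local D)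
  rw [card_pair D hX hX' hnc ha.1 ha1, card_pair_line D hX hX' hnc hf ha ha1, sq_sub D, mul_assoc]

theorem trans_pair_lines (hf : Fl A B X Y) (hf' : Fl A B X Y') :
    ∃ d ∈ normalizer (X : Set G) ⊓ normalizer (X' : Set G), cj d Y = Y' := by
  obtain ⟨a, ha, ha1⟩ := exists_z (hf.local D)
  obtain ⟨b, hb, hb1⟩ := exists_z (hf'.local D)
  obtain ⟨d, hd, e⟩ := trans_inf D hX hX' hnc ha.1 ha1 hb.1 hb1
  refine ⟨d, hd, ?_⟩
  apply ln_ti D (hf.ln.cj d) hf'.ln hb1 _ hb.2
  rw [← e]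
  exact conj_mem_cj ha.2

end pair

end Count

/-! ### A pair of noncollinear points: an involution centralized by the stabilizer of a line -/

section Pairing

variable {G : Type*} [Group G]

theorem isPGroup_of_sq {X : Subgroup G} (h : ∀ x ∈ X, x * x = 1) : IsPGroup 2 X := by
  rintro ⟨x, hx⟩
  refine ⟨1, Subtype.ext ?_⟩
  simp [pow_two, h x hx]

theorem coprime_of_odd [Finite G] {E X : Subgroup G} (hE : Odd (Nat.card E)) (h : ∀ x ∈ X, x * x = 1) :
    (Nat.card E).Coprime (Nat.card X) := by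
  obtain ⟨n, hn⟩ := (IsPGroup.iff_card).1 (isPGroup_of_sq h)
  rw [hn]
  exact Nat.Coprime.pow_right _ (Nat.coprime_two_right.2 hE)

theorem odd_of_le [Finite G] {E X : Subgroup G} (h : E ≤ X) (hX : Odd (Nat.card X)) : Odd (Nat.card E) :=
  Odd.of_dvd_nat hX (Subgroup.card_dvd_of_le h)

variable {A B X X' Y Y' : Subgroup G} {q : ℕ}
variable [Finite G] (D : LThreeLocal A B q)
include D

theorem exists_beta (hX : IsPt A X) (hX' : IsPt A X') (hnc : ¬ Col A B X X') :
    ∃ L, Fl A B X L ∧ ∃ β ∈ L, β ∉ X ∧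
      normalizer (X : Set G) ⊓ normalizer (X' : Set G) ⊓ normalizer (L : Set G) ≤ centralizer {β} := by
  let act : MulAction G (Subgroup G) :=
    { smul := cj
      one_smul := cj_one
      mul_smul := fun g h X => (cj_cj g h X).symm }
  have hact : ∀ (g : G) (L : Subgroup G), g • L = cj g L := fun _ _ => rfl
  by_contra hcon
  push Not at hcon
  have hodd := odd_card D hX hX' hnc
  set E : Subgroup G → Subgroup G := fun L =>
    normalizer (X : Set G) ⊓ normalizer (X' : Set G) ⊓ normalizer (L : Set G) with hE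
  have hsolv : ∀ L, Fl A B X L → Group.IsSolvable L := by
    intro L hL
    have D' := hL.local D
    exact Group.isSolvable_of_comm (fun a b => Subtype.ext (D'.B_comm a a.2 b b.2))
  have hcop : ∀ L, Fl A B X L → (Nat.card (E L)).Coprime (Nat.card L) := by
    intro L hL
    exact coprime_of_odd (odd_of_le inf_le_left hodd) (hL.local D).B_sq
  -- existence of a second fixed line
  have hex : ∀ L, Fl A B X L → ∃ L', Fl A B X L' ∧ L' ≠ L ∧ E L ≤ normalizer (L' : Set G) := by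
    intro L hL
    have h1 : ∃ L1, L1 ∈ {L : Subgroup G | Fl A B X L} ∧ L1 ≠ L := by
      apply Set.exists_ne_of_one_lt_ncard
      rw [ncard_lines D hX]
      have := D.four_le
      omega
    obtain ⟨L1, hL1, hne⟩ := h1
    have hL1 : Fl A B X L1 := hL1
    have D' := hL.local D
    obtain ⟨k, hk, hfix⟩ := Cfsg.Agent.Solvable.Glauberman.exists_smul_fixed (E L) L inf_le_right (hcop L hL)
      (Or.inr (hsolv L hL)) L1 (by
        intro a ha
        have e1 : cj a X = X := mem_normalizer_iff_cj.1 ha.1.1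
        have e2 : cj a L = L := mem_normalizer_iff_cj.1 ha.2
        have h2 : Fl A B X (cj a L1) := by
          have := hL1.cj a
          rwa [e1] at this
        have h3 : cj a L1 ≠ L := by
          intro h
          rw [← e2] at h
          exact hne (cj_inj.1 h)
        obtain ⟨k, hk, h4⟩ := trans_lines D hL hL1 h2 hne h3
        exact ⟨k, hk, h4.symm⟩)
    have e1 : cj k X = X := mem_normalizer_iff_cj.1 (D'.B_le hk)
    have e2 : cj k L = L := mem_normalizer_iff_cj.1 (le_normalizer hk)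
    refine ⟨cj k L1, ?_, ?_, ?_⟩
    · have := hL1.cj k
      rwa [e1] at this
    · intro h
      rw [← e2] at h
      exact hne (cj_inj.1 (by rw [h, e2]))
    · intro a ha
      exact mem_normalizer_iff_cj.2 (hfix a ha)
  -- uniqueness
  have huniq : ∀ L, Fl A B X L → ∀ L1, Fl A B X L1 → L1 ≠ L → E L ≤ normalizer (L1 : Set G) →
      ∀ L2, Fl A B X L2 → L2 ≠ L → E L ≤ normalizer (L2 : Set G) → L1 = L2 := by
    intro L hL L1 hL1 hne1 hE1 L2 hL2 hne2 hE2
    by_contra hne
    obtain ⟨k, hk, hk'⟩ := trans_lines D hL hL1 hL2 hne1 hne2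
    obtain ⟨c, hc, hcE, hcc⟩ := Cfsg.Agent.Solvable.Glauberman.exists_centralizer_smul (E L) L inf_le_right
      (hcop L hL) (Or.inr (hsolv L hL)) L1 L2 (fun a ha => mem_normalizer_iff_cj.1 (hE1 ha))
      (fun a ha => mem_normalizer_iff_cj.1 (hE2 ha)) hk hk'
    apply hcon L hL c hc
    · intro hcX
      apply hne
      have h1 : c ∈ normalizer (L1 : Set G) := (hL1.local D).A_le hcX
      rw [← mem_normalizer_iff_cj.1 h1]
      exact hcc
    · intro e he
      rw [Subgroup.mem_centralizer_singleton_iff]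
      exact (Subgroup.mem_centralizer_iff.1 hcE e he)
  choose! σ hσ1 hσ2 hσ3 using hex
  have hσ4 : ∀ L, Fl A B X L → σ (σ L) = L := by
    intro L hL
    have h1 : E L = E (σ L) := by
      apply eq_of_le_of_card
      · intro e he
        exact ⟨he.1, hσ3 L hL he⟩
      · have h2 := card_pair_eq D hX hX' hnc hL
        have h3 := card_pair_eq D hX hX' hnc (hσ1 L hL)
        rw [h2] at h3
        exact (Nat.eq_of_mul_eq_mul_left (Nat.succ_pos q) h3).symm
    apply huniq (σ L) (hσ1 L hL) _ (hσ1 _ (hσ1 L hL)) (hσ2 _ (hσ1 L hL)) (hσ3 _ (hσ1 L hL)) _ hL (hσ2 L hL).symm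
    rw [← h1]
    exact inf_le_right
  let τ : Equiv.Perm {L : Subgroup G // Fl A B X L} :=
    { toFun := fun L => ⟨σ L.1, hσ1 L.1 L.2⟩
      invFun := fun L => ⟨σ L.1, hσ1 L.1 L.2⟩
      left_inv := fun L => Subtype.ext (hσ4 L.1 L.2)
      right_inv := fun L => Subtype.ext (hσ4 L.1 L.2) }
  have : Fintype {L : Subgroup G // Fl A B X L} := Fintype.ofFinite _
  have hcard : Fintype.card {L : Subgroup G // Fl A B X L} = q + 1 := by
    rw [← Nat.card_eq_fintype_card]
    exact ncard_lines D hX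
  have hτ : τ ^ 2 ^ 1 = 1 := by
    refine Equiv.ext fun L => ?_
    rw [pow_one, pow_two, Equiv.Perm.mul_apply, Equiv.Perm.one_apply]
    exact τ.left_inv L
  obtain ⟨L, hL⟩ := Equiv.Perm.exists_fixed_point_of_prime (p := 2) (n := 1) (σ := τ) (by
    rw [hcard]
    have := D.even_q
    rw [← even_iff_two_dvd]
    rw [Nat.even_add_one]
    exact not_not.2 this) hτ
  exact hσ2 L.1 L.2 (congrArg Subtype.val hL)

end Pairing

/-! ### Any two points are collinear; the number of points -/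

section Collinear

variable {G : Type*} [Group G]

variable {A B X X' Y Y' : Subgroup G} {q : ℕ}
variable [Finite G] (D : LThreeLocal A B q)
include D

/-- the stabilizer of a point in the stabilizer of another point on the same line -/
theorem card_le_of_fixes {H L u v : Subgroup G} (hv : Fl A B v L) (hu : Fl A B u L) (huv : u ≠ v)
    (h1 : H ≤ normalizer (v : Set G)) (h2 : H ≤ normalizer (L : Set G)) :
    Nat.card H ≤ q * Nat.card (H ⊓ normalizer (u : Set G) : Subgroup G) := by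
  rw [card_eq_relIndex_mul H (normalizer (u : Set G)),
    relIndex_eq_ncard _ _ (fun g => cj g u) (fun h _ h' _ => cj_eq_cj_iff)]
  apply Nat.mul_le_mul_right
  have h5 : ({X : Subgroup G | Fl A B X L} \ {v}).ncard = q := by
    have hm : v ∈ {X : Subgroup G | Fl A B X L} := hv
    rw [Set.ncard_sdiff_singleton_of_mem hm, ncard_points D hv.ln]
    rfl
  rw [← h5]
  apply Set.ncard_le_ncard _ (Set.toFinite _)
  rintro _ ⟨g, hg, rfl⟩
  have e1 := mem_normalizer_iff_cj.1 (h1 hg)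
  have e2 := mem_normalizer_iff_cj.1 (h2 hg)
  refine ⟨?_, ?_⟩
  · have := hu.cj g
    rw [e2] at this
    exact this
  · intro e
    have e' : cj g u = v := e
    rw [← e1] at e'
    exact huv (cj_inj.1 e')

theorem card_sup_ge : q ^ 3 ≤ Nat.card (A ⊔ B : Subgroup G) := by
  have h1 := card_eq_relIndex_mul A B
  rw [D.card_A, D.card_Z, pow_two] at h1
  have hq := D.four_le
  have h2 : B.relIndex A = q := (Nat.eq_of_mul_eq_mul_right (by omega) h1).symm
  have h3 : B.relIndex A ≤ B.relIndex (A ⊔ B) :=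
    Subgroup.relIndex_le_of_le_right le_sup_left
      (Subgroup.index_ne_zero_of_finite (H := B.subgroupOf (A ⊔ B)))
  have h4 := card_eq_relIndex_mul (A ⊔ B) B
  rw [inf_eq_right.2 le_sup_right, D.card_B] at h4
  rw [h4, pow_succ, mul_comm]
  rw [h2] at h3
  exact Nat.mul_le_mul_right _ h3

theorem card_centralizer_ge {β : G} (hβ : β ≠ 1) (hβX : β ∈ X) (hX : IsPt A X) {E : Subgroup G}
    (hE : E ≤ centralizer {β}) (hodd : Odd (Nat.card E)) :
    q ^ 3 * Nat.card E ≤ Nat.card (centralizer {β} : Subgroup G) := by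
  have hsq := pt_sq D hX hβX
  obtain ⟨X0, Y0, hf, h1, h2⟩ := exists_flag D hsq hβ
  have D' := hf.local D
  have hS : X0 ⊔ Y0 ≤ centralizer {β} := by
    apply sup_le
    · intro x hx
      rw [Subgroup.mem_centralizer_singleton_iff]
      exact D'.A_comm x hx β h1
    · intro x hx
      rw [Subgroup.mem_centralizer_singleton_iff]
      exact D'.B_comm x hx β h2
  obtain ⟨S, hS'⟩ := D'.sylow
  obtain ⟨n, hn⟩ := (IsPGroup.iff_card).1 S.isPGroup'
  rw [show Nat.card S = Nat.card (X0 ⊔ Y0 : Subgroup G) by rw [← hS']] at hn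
  have hcop : (Nat.card (X0 ⊔ Y0 : Subgroup G)).Coprime (Nat.card E) := by
    rw [hn]
    exact Nat.Coprime.pow_left _ (Nat.coprime_two_left.2 hodd)
  have h3 := hcop.mul_dvd_of_dvd_of_dvd (Subgroup.card_dvd_of_le hS) (Subgroup.card_dvd_of_le hE)
  exact (Nat.mul_le_mul_right _ (card_sup_ge D')).trans (Nat.le_of_dvd Nat.card_pos h3)

/-- the centralizer of an involution -/
theorem card_centralizer_eq {β γ : G} (hβ : β ≠ 1) (hβX : β ∈ X) (hX : IsPt A X) (hγ : γ ≠ 1) (hγX : γ ∈ X) :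
    Nat.card (centralizer {β} : Subgroup G) = Nat.card (centralizer {γ} : Subgroup G) := by
  obtain ⟨g, rfl⟩ := hX
  obtain ⟨n, hn, rfl⟩ := (conj D g).trans_A β hβX hβ γ hγX hγ
  have h : (centralizer {n * β * n⁻¹} : Subgroup G) = cj n (centralizer {β}) := by
    ext x
    rw [mem_cj, Subgroup.mem_centralizer_singleton_iff, Subgroup.mem_centralizer_singleton_iff]
    constructor
    · intro e
      calc n⁻¹ * x * n * β = n⁻¹ * (x * (n * β * n⁻¹)) * n := by group
        _ = n⁻¹ * (n * β * n⁻¹ * x) * n := by rw [e]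
        _ = β * (n⁻¹ * x * n) := by group
    · intro e
      calc x * (n * β * n⁻¹) = n * (n⁻¹ * x * n * β) * n⁻¹ := by group
        _ = n * (β * (n⁻¹ * x * n)) * n⁻¹ := by rw [e]
        _ = n * β * n⁻¹ * x := by group
  rw [h, card_cj]

theorem no_path {L L' u w : Subgroup G} (hX : IsPt A X) (hw : IsPt A w) (hnc : ¬ Col A B X w) (h1 : Fl A B X L)
    (h2 : Fl A B u L) (h3 : Fl A B u L') (h4 : Fl A B w L') : False := by
  -- move the path so that its first line is the one of `exists_beta`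
  obtain ⟨L0, hL0, β, hβ, hβX, hβc⟩ := exists_beta D hX hw hnc
  obtain ⟨d, hd, hdL⟩ := trans_pair_lines D hX hw hnc h1 hL0
  have eX : cj d X = X := mem_normalizer_iff_cj.1 hd.1
  have ew : cj d w = w := mem_normalizer_iff_cj.1 hd.2
  have h2' : Fl A B (cj d u) L0 := by
    have := h2.cj d
    rwa [hdL] at this
  have h3' : Fl A B (cj d u) (cj d L') := h3.cj d
  have h4' : Fl A B w (cj d L') := by
    have := h4.cj d
    rwa [ew] at this
  clear h1 h2 h3 h4
  generalize cj d u = u at h2' h3'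
  generalize cj d L' = L' at h3' h4'
  have hLL : L' ≠ L0 := by
    rintro rfl
    exact hnc ⟨_, hL0, h4'⟩
  have huX : u ≠ X := by
    rintro rfl
    exact hnc ⟨_, h3', h4'⟩
  have hwu : w ≠ u := by
    rintro rfl
    exact hnc ⟨_, hL0, h2'⟩
  have D0 := hL0.local D
  have k1 := card_le_of_fixes D (H := normalizer (X : Set G) ⊓ normalizer (L0 : Set G)) hL0 h2' huX inf_le_left
    inf_le_right
  have k2 := card_le_of_fixes (symm D) (H := normalizer (X : Set G) ⊓ normalizer (L0 : Set G) ⊓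
    normalizer (u : Set G)) h2'.symm h3'.symm hLL (inf_le_left.trans inf_le_right) inf_le_right
  have k3 := card_le_of_fixes D (H := normalizer (X : Set G) ⊓ normalizer (L0 : Set G) ⊓
    normalizer (u : Set G) ⊓ normalizer (L' : Set G)) h3' h4' hwu (inf_le_left.trans inf_le_right) inf_le_right
  have k4 : Nat.card (normalizer (X : Set G) ⊓ normalizer (L0 : Set G) ⊓
      normalizer (u : Set G) ⊓ normalizer (L' : Set G) ⊓ normalizer (w : Set G) : Subgroup G) ≤
      Nat.card (normalizer (X : Set G) ⊓ normalizer (w : Set G) ⊓ normalizer (L0 : Set G) : Subgroup G) :=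
    Subgroup.card_le_of_le (fun g hg => ⟨⟨hg.1.1.1.1, hg.2⟩, hg.1.1.1.2⟩)
  have hβ1 : β ≠ 1 := by
    rintro rfl
    exact hβX X.one_mem
  have k5 := card_centralizer_ge (symm D) hβ1 hβ hL0.ln hβc (odd_of_le inf_le_left (odd_card D hX hw hnc))
  obtain ⟨z, hz, hz1⟩ := exists_z D0
  have k6 := card_norm_inf D0 hz hz1
  have k7 := card_centralizer_eq (symm D) hβ1 hβ hL0.ln hz1 hz.2
  rw [k7] at k5
  rw [k6] at k1
  have hq := D.four_le
  have hc : 0 < Nat.card (centralizer {z} : Subgroup G) := Nat.card_pos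
  have k8 : (q - 1) * Nat.card (centralizer {z} : Subgroup G) ≤
      q ^ 3 * Nat.card (normalizer (X : Set G) ⊓ normalizer (w : Set G) ⊓ normalizer (L0 : Set G) : Subgroup G) := by
    calc _ ≤ _ := k1
      _ ≤ q * (q * (q * Nat.card (normalizer (X : Set G) ⊓ normalizer (w : Set G) ⊓ normalizer (L0 : Set G) :
          Subgroup G))) :=
        Nat.mul_le_mul_left _ (k2.trans (Nat.mul_le_mul_left _ (k3.trans (Nat.mul_le_mul_left _ k4))))
      _ = _ := by ring
  have k9 : 3 * Nat.card (centralizer {z} : Subgroup G) ≤ (q - 1) * Nat.card (centralizer {z} : Subgroup G) :=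
    Nat.mul_le_mul_right _ (by omega)
  omega

/-- any two points are collinear -/
theorem col (hX : IsPt A X) (hX' : IsPt A X') : Col A B X X' := by
  by_contra hcon
  -- a noncollinear pair with the largest stabilizer
  have hne : Nonempty {p : Subgroup G × Subgroup G // IsPt A p.1 ∧ IsPt A p.2 ∧ ¬ Col A B p.1 p.2} :=
    ⟨⟨(X, X'), hX, hX', hcon⟩⟩
  obtain ⟨⟨⟨X, X'⟩, hX, hX', hnc⟩, hmax⟩ := Finite.exists_max (α := {p : Subgroup G × Subgroup G //
    IsPt A p.1 ∧ IsPt A p.2 ∧ ¬ Col A B p.1 p.2}) (fun p => Nat.card (normalizer (p.1.1 : Set G) ⊓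
      normalizer (p.1.2 : Set G) : Subgroup G))
  simp only at hX hX' hnc hmax
  obtain ⟨L, hL, β, hβ, hβX, hβc⟩ := exists_beta D hX hX' hnc
  have hβ1 : β ≠ 1 := by
    rintro rfl
    exact hβX X.one_mem
  -- the point of `β` on `L`
  obtain ⟨u, L1, hu, hβu, hβL1⟩ := exists_flag D (pt_sq (symm D) hL.ln hβ) hβ1
  have e1 : L1 = L := ln_ti D hu.ln hL.ln hβ1 hβL1 hβ
  subst e1
  have hnc' : ¬ Col A B u X' := by
    rintro ⟨L', h3, h4⟩
    exact no_path D hX hX' hnc hL hu h3 h4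
  have hle : normalizer (X : Set G) ⊓ normalizer (X' : Set G) ⊓ normalizer (L1 : Set G) ≤
      normalizer (u : Set G) ⊓ normalizer (X' : Set G) ⊓ centralizer {β} := by
    intro g hg
    exact ⟨⟨((hu.local D).cent_Z β ⟨hβu, hβL1⟩ hβ1 (hβc hg)).1, hg.1.2⟩, hβc hg⟩
  have h1 := card_pair D hu.pt hX' hnc' hβu hβ1
  have h2 := card_pair_eq D hX hX' hnc hL
  have h3 := Subgroup.card_le_of_le hle
  have h4 := hmax ⟨(u, X'), hu.pt, hX', hnc'⟩
  simp only at h4
  rw [h1, h2, sq_sub D, mul_assoc] at h4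
  have h5 := Nat.le_of_mul_le_mul_left h4 (Nat.succ_pos q)
  have hq := D.four_le
  have h6 : 0 < Nat.card (normalizer (X : Set G) ⊓ normalizer (X' : Set G) ⊓ normalizer (L1 : Set G) :
    Subgroup G) := Nat.card_pos
  have h7 : 3 * Nat.card (normalizer (u : Set G) ⊓ normalizer (X' : Set G) ⊓ centralizer {β} : Subgroup G) ≤
      (q - 1) * Nat.card (normalizer (u : Set G) ⊓ normalizer (X' : Set G) ⊓ centralizer {β} : Subgroup G) :=
    Nat.mul_le_mul_right _ (by omega)
  omega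

/-- the number of points -/
theorem ncard_pts : {X : Subgroup G | IsPt A X}.ncard = q ^ 2 + q + 1 := by
  have h1 : {X : Subgroup G | IsPt A X} = insert A ({X : Subgroup G | IsPt A X ∧ X ≠ A}) := by
    ext X
    simp only [Set.mem_ofPred_eq, Set.mem_insert_iff]
    constructor
    · intro h
      by_cases e : X = A
      · exact Or.inl e
      · exact Or.inr ⟨h, e⟩
    · rintro (rfl | h)
      · exact IsPt.self _
      · exact h.1
  rw [h1, Set.ncard_insert_of_notMem (by simp) (Set.toFinite _)]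
  have : Fintype {L : Subgroup G // Fl A B A L} := Fintype.ofFinite _
  have h2 : Nat.card ((L : {L : Subgroup G // Fl A B A L}) × {X : Subgroup G // Fl A B X L.1 ∧ X ≠ A}) =
      Nat.card {X : Subgroup G // IsPt A X ∧ X ≠ A} := by
    refine Nat.card_eq_of_bijective (fun p => ⟨p.2.1, p.2.2.1.pt, p.2.2.2⟩) ⟨?_, ?_⟩
    · rintro ⟨⟨L, hL⟩, X, hX, hXA⟩ ⟨⟨L', hL'⟩, X', hX', hXA'⟩ h
      have e : X = X' := congrArg Subtype.val h
      subst e
      have e : L = L' := unique_line D hXA hX hL hX' hL'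
      subst e
      rfl
    · rintro ⟨X, hX, hXA⟩
      obtain ⟨L, h3, h4⟩ := col D (IsPt.self A) hX
      exact ⟨⟨⟨L, h3⟩, X, h4, hXA⟩, rfl⟩
  have h3 : ∀ L : {L : Subgroup G // Fl A B A L}, Nat.card {X : Subgroup G // Fl A B X L.1 ∧ X ≠ A} = q := by
    intro L
    have hm : A ∈ {X : Subgroup G | Fl A B X L.1} := L.2
    have h5 : ({X : Subgroup G | Fl A B X L.1} \ {A}).ncard = q := by
      rw [Set.ncard_sdiff_singleton_of_mem hm, ncard_points D L.2.ln]
      rfl
    rw [← h5]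
    rfl
  rw [Nat.card_sigma, Finset.sum_congr rfl (fun L _ => h3 L), Finset.sum_const, Finset.card_univ,
    ← Nat.card_eq_fintype_card, smul_eq_mul] at h2
  have h4 : Nat.card {L : Subgroup G // Fl A B A L} = q + 1 := ncard_lines_self D
  rw [h4] at h2
  have h5 : {X : Subgroup G | IsPt A X ∧ X ≠ A}.ncard = (q + 1) * q := h2.symm
  rw [h5]
  ring

theorem index_norm : (normalizer (A : Set G)).index = q ^ 2 + q + 1 := by
  rw [← ncard_pts D, ← Subgroup.relIndex_top_right, relIndex_eq_ncard _ _ (fun g => cj g A)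
    (fun h _ h' _ => cj_eq_cj_iff)]
  congr 1
  ext X
  constructor
  · rintro ⟨g, -, rfl⟩
    exact ⟨g, rfl⟩
  · rintro ⟨g, rfl⟩
    exact ⟨g, trivial, rfl⟩

end Collinear

/-! ### A finite simple group with `LThreeLocal` and `LThreeCoord` data is `PSL₃(F)` -/

section BackMain

variable {G : Type*} [Group G]

variable {A B X X' Y Y' : Subgroup G} {q : ℕ}

section decomp

variable [Finite G] (D : LThreeLocal A B q)
include D

/-- the group of a point is the product of its intersections with two lines through it -/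
theorem decomp {L L' : Subgroup G} (hL : Fl A B X L) (hL' : Fl A B X L') (hne : L ≠ L') {c : G} (hc : c ∈ X) :
    ∃ a ∈ X ⊓ L, ∃ b ∈ X ⊓ L', c = a * b := by
  have h1 : Nat.card (↥(X ⊓ L) × ↥(X ⊓ L')) = Nat.card X := by
    rw [Nat.card_prod, (hL.local D).card_Z, (hL'.local D).card_Z, (hL.local D).card_A, pow_two]
  have h2 : Function.Bijective (fun p : ↥(X ⊓ L) × ↥(X ⊓ L') =>
      (⟨p.1.1 * p.2.1, X.mul_mem p.1.2.1 p.2.2.1⟩ : X)) := by
    rw [Nat.bijective_iff_injective_and_card]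
    refine ⟨?_, h1⟩
    rintro ⟨⟨a, ha⟩, b, hb⟩ ⟨⟨a', ha'⟩, b', hb'⟩ h
    have e : a * b = a' * b' := congrArg Subtype.val h
    have e1 : a'⁻¹ * a = b' * b⁻¹ := by
      calc a'⁻¹ * a = a'⁻¹ * (a * b) * b⁻¹ := by group
        _ = a'⁻¹ * (a' * b') * b⁻¹ := by rw [e]
        _ = b' * b⁻¹ := by group
    have e2 : a'⁻¹ * a = 1 := by
      by_contra h3
      apply hne
      apply ln_ti D hL.ln hL'.ln h3 (L.mul_mem (L.inv_mem ha'.2) ha.2)
      rw [e1]
      exact L'.mul_mem hb'.2 (L'.inv_mem hb.2)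
    have e3 : a' = a := inv_mul_eq_one.1 e2
    subst e3
    have e4 : b = b' := mul_left_cancel e
    subst e4
    rfl
  obtain ⟨⟨a, b⟩, h⟩ := h2.2 ⟨c, hc⟩
  exact ⟨a, a.2, b, b.2, (congrArg Subtype.val h).symm⟩

theorem planeData : Cfsg.Agent.LieExceptional.PlaneGeom.PlaneData G (normalizer (A : Set G)) (normalizer (B : Set G))
    A B q where
  hq := by
    have := D.four_le
    omega
  V1_le_P1 := le_normalizer
  V1_le_P2 := D.A_le
  V2_le_P1 := D.B_le
  V2_le_P2 := le_normalizer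
  V1_norm := fun g hg v hv => (Subgroup.mem_normalizer_iff.1 hg v).1 hv
  V2_norm := fun g hg v hv => (Subgroup.mem_normalizer_iff.1 hg v).1 hv
  index_G := index_norm D
  index_1 := relIndex_AB D
  index_2 := relIndex_AB (symm D)
  card_V2 := D.card_B
  card_W := D.card_Z
  H1 := D.H1
  H2 := D.H2
  H3 := by
    intro g hg hg' v hv h
    have e : cj g B = B := mem_normalizer_iff_cj.1 hg
    have h1 : Fl A B (cj g A) B := ⟨g, rfl, e⟩
    apply mem_line_of_norm D (Fl.self A B) h1 _ hv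
    · rw [mem_normalizer_cj]
      exact h
    · intro h2
      exact hg' (mem_normalizer_iff_cj.2 h2.symm)

end decomp

section coord

variable {F : Type*} [Field F] {x y z : F → G}

theorem map_zero_of_add {x : F → G} (h : ∀ a b, x (a + b) = x a * x b) : x 0 = 1 := by
  have := h 0 0
  rw [add_zero] at this
  exact left_eq_mul.1 this

theorem map_neg_of_add {x : F → G} (h : ∀ a b, x (a + b) = x a * x b) (a : F) : x (-a) = (x a)⁻¹ := by
  apply eq_inv_of_mul_eq_one_left
  rw [← h, neg_add_cancel, map_zero_of_add h]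

variable (C : LThreeCoord A B x y z)
include C

theorem x_mem (a : F) : x a ∈ A := (C.mem_A _).2 ⟨a, 0, by rw [map_zero_of_add C.z_add, mul_one]⟩

theorem y_mem (a : F) : y a ∈ B := (C.mem_B _).2 ⟨a, 0, by rw [map_zero_of_add C.z_add, mul_one]⟩

theorem z_mem_A (a : F) : z a ∈ A := (C.mem_A _).2 ⟨0, a, by rw [map_zero_of_add C.x_add, one_mul]⟩

theorem z_mem_B (a : F) : z a ∈ B := (C.mem_B _).2 ⟨0, a, by rw [map_zero_of_add C.y_add, one_mul]⟩

variable [Finite G] (D : LThreeLocal A B q) (hF : Nat.card F = q)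
include D hF

theorem yz_bijective : Function.Bijective (fun p : F × F => (⟨y p.1 * z p.2, B.mul_mem (y_mem C _) (z_mem_B C _)⟩ :
    B)) := by
  have hfin : Finite F := Nat.finite_of_card_ne_zero (by rw [hF]; have := D.four_le; omega)
  rw [Nat.bijective_iff_surjective_and_card]
  refine ⟨?_, ?_⟩
  · rintro ⟨v, hv⟩
    obtain ⟨b, c, e⟩ := (C.mem_B v).1 hv
    exact ⟨(b, c), Subtype.ext e.symm⟩
  · rw [Nat.card_prod, hF, D.card_B, pow_two]

theorem z_surj {v : G} (hv : v ∈ A ⊓ B) : ∃ c, v = z c := by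
  have hfin : Finite F := Nat.finite_of_card_ne_zero (by rw [hF]; have := D.four_le; omega)
  have h : Function.Bijective (fun c : F => (⟨z c, ⟨z_mem_A C c, z_mem_B C c⟩⟩ : (A ⊓ B : Subgroup G))) := by
    rw [Nat.bijective_iff_injective_and_card]
    refine ⟨?_, ?_⟩
    · intro c c' e
      have e : z c = z c' := congrArg Subtype.val e
      have h1 := (yz_bijective C D hF).1 (a₁ := (0, c)) (a₂ := (0, c')) (Subtype.ext (by simp only [e]))
      exact congrArg Prod.snd h1
    · rw [hF, D.card_Z]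
  obtain ⟨c, hc⟩ := h.2 ⟨v, hv⟩
  exact ⟨c, (congrArg Subtype.val hc).symm⟩

theorem yz_inj {b b' c c' : F} (h : y b * z c = y b' * z c') : b = b' ∧ c = c' := by
  have h1 := (yz_bijective C D hF).1 (a₁ := (b, c)) (a₂ := (b', c')) (Subtype.ext h)
  exact ⟨congrArg Prod.fst h1, congrArg Prod.snd h1⟩

theorem exists_coord : ∃ φ : B → F × F, Cfsg.Agent.LieExceptional.PlaneCoord.Coord (normalizer (A : Set G))
    (normalizer (B : Set G)) A B φ := by
  -- a second point on the line `B`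
  have h1 : ∃ X0, X0 ∈ {X : Subgroup G | Fl A B X B} ∧ X0 ≠ A := by
    apply Set.exists_ne_of_one_lt_ncard
    rw [ncard_points D (IsPt.self B)]
    have := D.four_le
    omega
  obtain ⟨X0, hX0, hXA⟩ := h1
  have hX0 : Fl A B X0 B := hX0
  have hBc := D.B_comm
  -- the function `f`
  have hex : ∀ b : F, ∃ c, y b * z c ∈ X0 := by
    intro b
    obtain ⟨w, hw, v, hv, e⟩ := decomp (symm D) hX0.symm (Fl.self B A) hXA (y_mem C b)
    obtain ⟨c, rfl⟩ := z_surj C D hF (v := v) ⟨hv.2, hv.1⟩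
    refine ⟨-c, ?_⟩
    rw [map_neg_of_add C.z_add, e, mul_assoc, mul_inv_cancel, mul_one]
    exact hw.2
  choose f hf using hex
  have huniq : ∀ b c, y b * z c ∈ X0 → c = f b := by
    intro b c h
    have h2 : z (c - f b) ∈ X0 := by
      have h3 := X0.mul_mem (X0.inv_mem (hf b)) h
      have h4 : (y b * z (f b))⁻¹ * (y b * z c) = z (c - f b) := by
        rw [sub_eq_add_neg, add_comm, C.z_add, map_neg_of_add C.z_add]
        group
      rwa [h4] at h3
    by_contra hne
    have h5 : z (c - f b) ≠ 1 := by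
      intro h6
      rw [← map_zero_of_add C.z_add] at h6
      have := (yz_inj C D hF (b := 0) (b' := 0) (c := c - f b) (c' := 0) (by rw [h6])).2
      exact hne (sub_eq_zero.1 this)
    exact hXA (pt_ti D hX0.pt (IsPt.self A) h5 h2 (z_mem_A C _))
  have hfadd : ∀ b b', f (b + b') = f b + f b' := by
    intro b b'
    symm
    apply huniq
    have h3 := X0.mul_mem (hf b) (hf b')
    have h4 : y b * z (f b) * (y b' * z (f b')) = y (b + b') * z (f b + f b') := by
      rw [C.y_add, C.z_add]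
      calc y b * z (f b) * (y b' * z (f b')) = y b * (z (f b) * y b') * z (f b') := by group
        _ = y b * (y b' * z (f b)) * z (f b') := by rw [hBc _ (z_mem_B C _) _ (y_mem C _)]
        _ = _ := by group
    rwa [h4] at h3
  -- the coordinates
  let e : F × F → B := fun p => ⟨y p.1 * z (f p.1 + p.2), B.mul_mem (y_mem C _) (z_mem_B C _)⟩
  have he : Function.Bijective e := by
    constructor
    · rintro ⟨b, c⟩ ⟨b', c'⟩ h
      obtain ⟨h3, h4⟩ := yz_inj C D hF (congrArg Subtype.val h)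
      simp only at h3 h4
      subst h3
      rw [add_left_cancel h4]
    · intro v
      obtain ⟨⟨b, c⟩, h⟩ := (yz_bijective C D hF).2 v
      refine ⟨(b, c - f b), ?_⟩
      rw [← h]
      apply Subtype.ext
      simp only [e, add_sub_cancel]
  let E := Equiv.ofBijective e he
  have hE : ∀ p, E p = e p := fun p => rfl
  have hmul : ∀ p p', e (p + p') = e p * e p' := by
    rintro ⟨b, c⟩ ⟨b', c'⟩
    apply Subtype.ext
    simp only [e, Prod.mk_add_mk, Subgroup.coe_mul, hfadd, C.y_add]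
    rw [show f b + f b' + (c + c') = (f b + c) + (f b' + c') by ring, C.z_add]
    calc y b * y b' * (z (f b + c) * z (f b' + c')) = y b * (y b' * z (f b + c)) * z (f b' + c') := by group
      _ = y b * (z (f b + c) * y b') * z (f b' + c') := by rw [hBc _ (z_mem_B C _) _ (y_mem C _)]
      _ = _ := by group
  refine ⟨E.symm, E.symm.bijective, ?_, ?_⟩
  · intro u v
    rw [Equiv.symm_apply_eq, hE, hmul, ← hE, ← hE, Equiv.apply_symm_apply, Equiv.apply_symm_apply]
  · intro p hp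
    have hpB : cj p B = B := mem_normalizer_iff_cj.1 hp
    have hpt : Fl A B (cj p A) B := ⟨p, rfl, hpB⟩
    by_cases hpA : cj p A = A
    · refine ⟨(0, 1), by simp, ?_⟩
      intro v
      rw [← mem_cj, hpA]
      constructor
      · intro h
        obtain ⟨c, hc⟩ := z_surj C D hF ⟨h, v.2⟩
        refine ⟨c, ?_⟩
        rw [Equiv.symm_apply_eq, hE]
        apply Subtype.ext
        have hf0 : f 0 = 0 := by
          have := hfadd 0 0
          rw [add_zero] at this
          exact left_eq_add.1 this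
        simp only [e, mul_zero, mul_one, hf0, zero_add, map_zero_of_add C.y_add, one_mul]
        exact hc
      · rintro ⟨a, ha⟩
        rw [Equiv.symm_apply_eq, hE] at ha
        rw [ha]
        simp only [e, mul_zero, map_zero_of_add C.y_add, one_mul]
        exact z_mem_A C _
    · obtain ⟨a, ha, haX⟩ := trans_pt D hX0 hpt hXA hpA
      obtain ⟨t, s, rfl⟩ := (C.mem_A a).1 ha
      have haB : cj (x t * z s) B = B := mem_normalizer_iff_cj.1 (D.A_le ha)
      have hconj : ∀ b, x t * z s * (y b * z (f b)) * (x t * z s)⁻¹ = (e (b, b * t) : G) := by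
        intro b
        have h1 := C.comm t b
        have h2 : x t * y b * (x t)⁻¹ = z (t * b) * y b := by
          rw [← h1]
          group
        have h3 : z s * (y b * z (f b)) * (z s)⁻¹ = y b * z (f b) := by
          rw [hBc _ (z_mem_B C s) _ (B.mul_mem (y_mem C b) (z_mem_B C _))]
          group
        have h4 : x t * z (f b) * (x t)⁻¹ = z (f b) := by
          rw [D.A_comm _ (x_mem C t) _ (z_mem_A C _)]
          group
        calc x t * z s * (y b * z (f b)) * (x t * z s)⁻¹ = x t * (z s * (y b * z (f b)) * (z s)⁻¹) * (x t)⁻¹ := by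
              group
          _ = x t * y b * (x t)⁻¹ * (x t * z (f b) * (x t)⁻¹) := by
              rw [h3]
              group
          _ = z (t * b) * y b * z (f b) := by rw [h2, h4]
          _ = y b * (z (f b) * z (t * b)) := by
              rw [hBc _ (z_mem_B C _) _ (y_mem C b), mul_assoc, hBc _ (z_mem_B C _) _ (z_mem_B C _)]
          _ = _ := by
              simp only [e]
              rw [C.z_add, mul_comm t b]
      refine ⟨(1, t), by simp, ?_⟩
      intro v
      rw [← mem_cj, ← haX]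
      constructor
      · intro h
        obtain ⟨w, hw, hvw⟩ := exists_of_mem_cj h
        have hwB : w ∈ B := by
          have h5 : (v : G) ∈ cj (x t * z s) B := by
            rw [haB]
            exact v.2
          rw [hvw, conj_mem_cj_iff] at h5
          exact h5
        obtain ⟨b, c, rfl⟩ := (C.mem_B w).1 hwB
        have hc := huniq b c hw
        refine ⟨b, ?_⟩
        rw [Equiv.symm_apply_eq, hE, mul_one]
        apply Subtype.ext
        rw [hvw, hc, hconj]
      · rintro ⟨a, ha⟩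
        rw [Equiv.symm_apply_eq, hE, mul_one] at ha
        rw [ha, ← hconj]
        exact conj_mem_cj (hf a)

/-- **the back end**: a finite simple group with `LThreeLocal` and `LThreeCoord` data is `PSL₃(F)` -/
theorem nonempty_psl [IsSimpleGroup G] : Nonempty (G ≃* Matrix.ProjectiveSpecialLinearGroup (Fin 3) F) := by
  obtain ⟨φ, hφ⟩ := exists_coord C D hF
  exact Cfsg.Agent.LieExceptional.PlaneMap.psl_of_coord (planeData D) hφ

end coord

end BackMain

end Cfsg.Agent.TypeL3.Back
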