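import Mathlib
import Cfsg.Agent.TypeL3.Fusion
import Cfsg.Agent.TwoFusion.StronglyEmbeddedBasic
import Cfsg.Prelude.Def_TwoFusion
import Cfsg.Prelude.Def_Involutions

/-!
# Strong closure of `A`, `B`, and `N(A) ≰ N(Z)` in simple groups
-/

set_option autoImplicit false

namespace Cfsg.Agent.TypeL3

open Subgroup Cfsg.Agent.Lib.GoldschmidtFusion
open scoped commutatorElement

universe u

/-- the statement of Goldschmidt's theorem S1169 in universe `u` -/
def H1169 : Prop := ∀ (X : Type u) [Group X] [Finite X] [IsSimpleGroup X] (S : Sylow 2 X) (A : Subgroup X),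
  A ≠ ⊥ → IsMulCommutative A → Cfsg.IsStronglyClosed A (S : Subgroup X) →
    IsMulCommutative (S : Subgroup X) ∨ ∃ H : Subgroup X, Cfsg.IsStronglyEmbedded H

variable {G : Type u} [Group G]

theorem orderOf_eq_two_of_sq {x : G} (h : x * x = 1) (hx : x ≠ 1) : orderOf x = 2 :=
  orderOf_eq_prime (by rw [pow_two]; exact h) hx

theorem conj_mem_of_mem_normalizer {X : Subgroup G} {g x : G} (hg : g ∈ normalizer (X : Set G)) (hx : x ∈ X) :
    g * x * g⁻¹ ∈ X := by
  have := conj_mem_map_conj hx g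
  rwa [mem_normalizer_iff_map_conj.1 hg] at this

theorem conj_mem_iff_of_mem_normalizer {X : Subgroup G} {g x : G} (hg : g ∈ normalizer (X : Set G)) :
    g * x * g⁻¹ ∈ X ↔ x ∈ X := by
  constructor
  · intro h
    have := conj_mem_of_mem_normalizer (inv_mem hg) h
    simpa [mul_assoc] using this
  · exact conj_mem_of_mem_normalizer hg

theorem stronglyClosed_inf {S A B : Subgroup G} (hA : Cfsg.IsStronglyClosed A S) (hB : Cfsg.IsStronglyClosed B S) :
    Cfsg.IsStronglyClosed (A ⊓ B) S :=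
  ⟨inf_le_left.trans hA.1, fun x hx g hg =>
    mem_inf.2 ⟨hA.2 x (mem_inf.1 hx).1 g hg, hB.2 x (mem_inf.1 hx).2 g hg⟩⟩

/-- in a group with a strongly embedded subgroup, a strongly closed subgroup containing an involution
contains all the involutions of the Sylow 2-subgroup -/
theorem mem_of_stronglyEmbedded [Finite G] {H : Subgroup G} (hH : Cfsg.IsStronglyEmbedded H) {S A : Subgroup G}
    (hA : Cfsg.IsStronglyClosed A S) {a s : G} (ha : a ∈ A) (ha2 : a * a = 1) (ha1 : a ≠ 1) (hs : s ∈ S)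
    (hs2 : s * s = 1) : s ∈ A := by
  by_cases hs1 : s = 1
  · rw [hs1]; exact one_mem _
  have h1 := Cfsg.Agent.TwoFusion.StronglyEmbeddedBasic.isConj_of_involutions hH a s
    (orderOf_eq_two_of_sq ha2 ha1) (orderOf_eq_two_of_sq hs2 hs1)
  obtain ⟨c, hc⟩ := isConj_iff.1 h1
  rw [← hc]
  exact hA.2 a ha c (by rw [hc]; exact hs)

namespace IsAB

variable {A B : Subgroup G} [Finite G]

/-- if `N(A)` normalises `Z` then `B` is strongly closed -/
theorem stronglyClosed_B {S : Sylow 2 G} (h : IsAB (S : Subgroup G) A B)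
    (hA : normalizer (A : Set G) ≤ normalizer ((A ⊓ B : Subgroup G) : Set G)) :
    Cfsg.IsStronglyClosed B (S : Subgroup G) := by
  refine ⟨h.B_le, fun x hx g hg => ?_⟩
  have h1 : zpowers x ≤ (S : Subgroup G) := zpowers_le.2 (h.B_le hx)
  have h2 := h.gen_AB h1 (zpowers_map_conj_le hg)
  have h3 := h2.invariant (fun y => y ∈ B) ?_ x (mem_zpowers x)
  · exact (iff_of_eq h3).2 hx
  · intro X hXS hX n hn y hy
    apply propext
    rcases hX with rfl | rfl | rfl
    · exact conj_mem_iff_of_mem_normalizer (h.normalizer_le_B hn)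
    · have hn' := conj_mem_iff_of_mem_normalizer (x := y) (hA hn)
      have hny := conj_mem_of_mem_normalizer hn hy
      constructor
      · intro h4
        exact (mem_inf.1 (hn'.1 (mem_inf.2 ⟨hny, h4⟩))).2
      · intro h4
        exact (mem_inf.1 (hn'.2 (mem_inf.2 ⟨hy, h4⟩))).2
    · exact conj_mem_iff_of_mem_normalizer hn

theorem stronglyClosed_A {S : Sylow 2 G} (h : IsAB (S : Subgroup G) A B)
    (hB : normalizer (B : Set G) ≤ normalizer ((A ⊓ B : Subgroup G) : Set G)) :
    Cfsg.IsStronglyClosed A (S : Subgroup G) :=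
  h.symm.stronglyClosed_B (by rw [inf_comm]; exact hB)

/-- in a simple group `N(A)` does not normalise `Z` -/
theorem not_normalizer_le (h1169 : H1169.{u}) [IsSimpleGroup G] {S : Sylow 2 G} (h : IsAB (S : Subgroup G) A B) :
    ¬ normalizer (A : Set G) ≤ normalizer ((A ⊓ B : Subgroup G) : Set G) := by
  intro hA
  have hB := h.stronglyClosed_B hA
  obtain ⟨b, hb, hbA⟩ := h.neB
  have hb1 : b ≠ 1 := fun h1 => hbA (h1 ▸ one_mem _)
  have hBne : B ≠ ⊥ := fun h1 => hb1 (by rw [h1] at hb; exact mem_bot.1 hb)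
  have hcomm : IsMulCommutative B := ⟨⟨fun x y => Subtype.ext (h.B_comm x x.2 y y.2)⟩⟩
  rcases h1169 G S B hBne hcomm hB with h1 | ⟨H, hH⟩
  · apply h.not_comm
    intro x hx y hy
    exact congrArg Subtype.val (h1.1.1 (⟨x, hx⟩ : (S : Subgroup G)) ⟨y, hy⟩)
  · obtain ⟨a, ha, haB⟩ := h.neA
    exact haB (mem_of_stronglyEmbedded hH hB hb (h.B_sq b hb) hb1 (h.A_le ha) (h.A_sq a ha))

theorem not_normalizer_le' (h1169 : H1169.{u}) [IsSimpleGroup G] {S : Sylow 2 G} (h : IsAB (S : Subgroup G) A B) :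
    ¬ normalizer (B : Set G) ≤ normalizer ((A ⊓ B : Subgroup G) : Set G) := by
  have := h.symm.not_normalizer_le h1169
  rwa [inf_comm] at this

end IsAB

end Cfsg.Agent.TypeL3
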