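import Mathlib
import Cfsg.Agent.TypeL3.Closed
import Cfsg.Agent.S0660
import Cfsg.Agent.Lib.FrattiniPGroup
import Cfsg.Prelude.Def_CaseTheorems
import Cfsg.Agent.Lib.Cores

/-!
# Simple groups with elementary abelian Sylow 2-subgroups and strongly closed subgroups
-/

set_option autoImplicit false

namespace Cfsg.Agent.TypeL3

open Subgroup Cfsg.Agent.Lib.GoldschmidtFusion
open scoped commutatorElement

universe u

/-- the statement of Goldschmidt's product theorem (first half of S1171) in universe `u` -/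
def H1171 : Prop := ∀ (X : Type u) [Group X] [Finite X] (P : Sylow 2 X) (A B : Subgroup X),
  A ⊓ B = ⊥ → Cfsg.IsStronglyClosed A (P : Subgroup X) → Cfsg.IsStronglyClosed B (P : Subgroup X) →
    ⁅Subgroup.normalClosure (A : Set X), Subgroup.normalClosure (B : Set X)⁆ ≤ Cfsg.oddCore X

variable {Y : Type u} [Group Y] [Finite Y]

/-- a Sylow 2-subgroup generated by two strongly closed elementary abelian subgroups is elementary abelian -/
theorem comm_of_two_closed (h1169 : H1169.{u}) [IsSimpleGroup Y] (P : Sylow 2 Y) {Q R : Subgroup Y}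
    (hQ : Cfsg.IsStronglyClosed Q (P : Subgroup Y)) (hR : Cfsg.IsStronglyClosed R (P : Subgroup Y))
    (hQc : ∀ x ∈ Q, ∀ y ∈ Q, x * y = y * x) (hRc : ∀ x ∈ R, ∀ y ∈ R, x * y = y * x)
    (hQ2 : ∀ x ∈ Q, x * x = 1) (hR2 : ∀ x ∈ R, x * x = 1)
    (hQR : ∀ x ∈ (P : Subgroup Y), ∃ y ∈ Q, ∃ z ∈ R, x = y * z) :
    (∀ x ∈ (P : Subgroup Y), ∀ y ∈ (P : Subgroup Y), x * y = y * x) ∧ ∀ x ∈ (P : Subgroup Y), x * x = 1 := by
  -- enough: commutativity
  have fin : (∀ x ∈ (P : Subgroup Y), ∀ y ∈ (P : Subgroup Y), x * y = y * x) →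
      (∀ x ∈ (P : Subgroup Y), ∀ y ∈ (P : Subgroup Y), x * y = y * x) ∧ ∀ x ∈ (P : Subgroup Y), x * x = 1 := by
    intro hc
    refine ⟨hc, fun x hx => ?_⟩
    obtain ⟨y, hy, z, hz, rfl⟩ := hQR x hx
    have h1 := hc y (hQ.1 hy) z (hR.1 hz)
    calc y * z * (y * z) = y * (z * y) * z := by group
      _ = (y * y) * (z * z) := by rw [← h1]; group
      _ = 1 := by rw [hQ2 y hy, hR2 z hz, one_mul]
  have key : ∀ (Q R : Subgroup Y), Cfsg.IsStronglyClosed Q (P : Subgroup Y) →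
      (∀ x ∈ Q, ∀ y ∈ Q, x * y = y * x) → (∀ x ∈ Q, x * x = 1) → R ≤ (P : Subgroup Y) →
      (∀ x ∈ R, x * x = 1) → Q ≠ ⊥ →
      (∀ x ∈ (P : Subgroup Y), ∀ y ∈ (P : Subgroup Y), x * y = y * x) ∨ R ≤ Q := by
    intro Q R hQ hQc hQ2 hRP hR2 hQne
    have hcomm : IsMulCommutative Q := ⟨⟨fun x y => Subtype.ext (hQc x x.2 y y.2)⟩⟩
    rcases h1169 Y P Q hQne hcomm hQ with h1 | ⟨H, hH⟩
    · left
      intro x hx y hy
      exact congrArg Subtype.val (h1.1.1 (⟨x, hx⟩ : (P : Subgroup Y)) ⟨y, hy⟩)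
    · right
      obtain ⟨q, hq, hq1⟩ : ∃ q ∈ Q, q ≠ 1 := by
        by_contra h0
        push Not at h0
        exact hQne ((Subgroup.eq_bot_iff_forall _).2 h0)
      intro r hr
      exact mem_of_stronglyEmbedded hH hQ hq (hQ2 q hq) hq1 (hRP hr) (hR2 r hr)
  by_cases hQ0 : Q = ⊥
  · apply fin
    intro x hx y hy
    obtain ⟨a, ha, b, hb, rfl⟩ := hQR x hx
    obtain ⟨c, hc, d, hd, rfl⟩ := hQR y hy
    rw [hQ0, mem_bot] at ha hc
    subst ha; subst hc
    simpa using hRc b hb d hd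
  · rcases key Q R hQ hQc hQ2 hR.1 hR2 hQ0 with h1 | h1
    · exact fin h1
    · apply fin
      intro x hx y hy
      obtain ⟨a, ha, b, hb, rfl⟩ := hQR x hx
      obtain ⟨c, hc, d, hd, rfl⟩ := hQR y hy
      exact hQc _ (mul_mem ha (h1 hb)) _ (mul_mem hc (h1 hd))

theorem oddCore_eq_bot_of_simple [IsSimpleGroup Y] (P : Sylow 2 Y) (hP : (P : Subgroup Y) ≠ ⊥) :
    Cfsg.oddCore Y = ⊥ := by
  have hn : (Cfsg.oddCore Y).Normal := Cfsg.Agent.Lib.Cores.pPrimeCore_normal 2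
  rcases hn.eq_bot_or_eq_top with h | h
  · exact h
  · exfalso
    have h1 := (Cfsg.Agent.Lib.Cores.pPrimeCore_eq_top_iff (G := Y) (p := 2)).1 h
    have h3 : Nat.card Y = Nat.card (P : Subgroup Y) * (P : Subgroup Y).index :=
      ((P : Subgroup Y).card_mul_index).symm
    apply hP
    obtain ⟨k, hk⟩ := IsPGroup.iff_card.1 P.isPGroup'
    rcases Nat.eq_zero_or_pos k with h4 | h4
    · rw [h4, pow_zero] at hk
      exact Subgroup.card_eq_one.1 hk
    · exfalso
      have h5 : 2 ∣ Nat.card Y := by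
        rw [h3, hk]
        exact Dvd.dvd.mul_right (dvd_pow_self 2 h4.ne') _
      have h6 : Nat.gcd (Nat.card Y) 2 = 2 := Nat.gcd_eq_right h5
      rw [Nat.Coprime] at h1
      omega

/-- a strongly closed subgroup of an elementary abelian Sylow 2-subgroup of a simple group is trivial or
everything -/
theorem closed_eq_bot_or_eq (h1171 : H1171.{u}) [IsSimpleGroup Y] (hna : ∃ a b : Y, a * b ≠ b * a)
    (P : Sylow 2 Y) (hPc : ∀ x ∈ (P : Subgroup Y), ∀ y ∈ (P : Subgroup Y), x * y = y * x)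
    (hP2 : ∀ x ∈ (P : Subgroup Y), x * x = 1) {Q : Subgroup Y}
    (hQ : Cfsg.IsStronglyClosed Q (P : Subgroup Y)) : Q = ⊥ ∨ Q = P := by
  classical
  by_cases hPne : (P : Subgroup Y) = ⊥
  · left
    exact le_bot_iff.1 (hPne ▸ hQ.1)
  have hcore := oddCore_eq_bot_of_simple P hPne
  let _ : CommGroup (P : Subgroup Y) :=
    { (inferInstance : Group (P : Subgroup Y)) with
      mul_comm := fun x y => Subtype.ext (hPc x x.2 y y.2) }
  -- the action of `N(P)` on `P`
  let N := normalizer ((P : Subgroup Y) : Set Y)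
  let φ : N →* MulAut (P : Subgroup Y) := (P : Subgroup Y).normalizerMonoidHom
  have hφ : ∀ (n : N) (x : (P : Subgroup Y)), ((φ n x : (P : Subgroup Y)) : Y) = n * x * (n : Y)⁻¹ :=
    fun n x => rfl
  let A := φ.range
  have hcop : (Nat.card A).Coprime (Nat.card (P : Subgroup Y)) := by
    obtain ⟨k, hk⟩ := IsPGroup.iff_card.1 P.isPGroup'
    rw [hk]
    apply Nat.Coprime.pow_right
    rw [Nat.coprime_comm, Nat.Prime.coprime_iff_not_dvd Nat.prime_two]
    intro hd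
    have h1 : Nat.card A = φ.ker.index := (Subgroup.index_ker φ).symm
    have h2 : (P : Subgroup Y).subgroupOf N ≤ φ.ker := by
      intro n hn
      rw [mem_subgroupOf] at hn
      rw [MonoidHom.mem_ker]
      ext x
      rw [hφ, MulAut.one_apply, hPc n hn x x.2, mul_inv_cancel_right]
    have h3 : φ.ker.index ∣ ((P : Subgroup Y).subgroupOf N).index := Subgroup.index_dvd_of_le h2
    apply P.not_dvd_index
    rw [h1] at hd
    exact (hd.trans h3).trans (relIndex_dvd_index_of_le le_normalizer)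
  let U := Q.subgroupOf (P : Subgroup Y)
  obtain ⟨W, hW⟩ := Cfsg.Agent.Lib.FrattiniPGroup.exists_isCompl_of_elementary (p := 2)
    (fun a b : (P : Subgroup Y) => mul_comm a b)
    (fun a => Subtype.ext (by rw [Subgroup.coe_pow, pow_two]; exact hP2 a a.2)) U
  have hU : ∀ a : A, ∀ u ∈ U, (A.subtype a) u ∈ U := by
    rintro ⟨_, n, rfl⟩ u hu
    rw [mem_subgroupOf] at hu ⊢
    show ((φ n u : (P : Subgroup Y)) : Y) ∈ Q
    rw [hφ]
    exact hQ.2 u hu n ((φ n u).2)
  obtain ⟨W', hW', hinf, hsup⟩ := Cfsg.Agent.S0660.exists_invariant_complement A.subtype hcop U W hU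
    hW.inf_eq_bot hW.sup_eq_top
  let R := W'.map (P : Subgroup Y).subtype
  have hRP : R ≤ (P : Subgroup Y) := by
    rintro _ ⟨x, -, rfl⟩
    exact x.2
  have hPcomm : IsMulCommutative (P : Subgroup Y) := ⟨⟨fun x y => Subtype.ext (hPc x x.2 y y.2)⟩⟩
  have hR : Cfsg.IsStronglyClosed R (P : Subgroup Y) := by
    refine ⟨hRP, ?_⟩
    rintro _ ⟨x, hx, rfl⟩ g hg
    have hg' : g⁻¹⁻¹ * (x : Y) * g⁻¹ ∈ (P : Subgroup Y) := by rw [inv_inv]; exact hg
    obtain ⟨n, hn, e⟩ := P.conj_eq_normalizer_conj_of_mem (x : Y) g⁻¹ x.2 hg'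
    rw [inv_inv] at e
    have h1 := hW' ⟨φ ⟨n⁻¹, inv_mem hn⟩, ⟨_, rfl⟩⟩ x hx
    refine ⟨_, h1, ?_⟩
    show ((φ ⟨n⁻¹, inv_mem hn⟩ x : (P : Subgroup Y)) : Y) = g * x * g⁻¹
    rw [hφ, e]
    simp
  have hQR : Q ⊓ R = ⊥ := by
    rw [Subgroup.eq_bot_iff_forall]
    intro x hx
    obtain ⟨hxQ, w, hw, rfl⟩ := mem_inf.1 hx
    have h1 : w ∈ U ⊓ W' := mem_inf.2 ⟨by rw [mem_subgroupOf]; exact hxQ, hw⟩
    rw [hinf, mem_bot] at h1
    rw [h1]; rfl
  have hC := h1171 Y P Q R hQR hQ hR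
  rw [hcore] at hC
  have hC' : ∀ a ∈ Subgroup.normalClosure (Q : Set Y), ∀ b ∈ Subgroup.normalClosure (R : Set Y), a * b = b * a := by
    intro a ha b hb
    have h1 : ⁅a, b⁆ ∈ (⊥ : Subgroup Y) := hC (commutator_mem_commutator ha hb)
    rw [mem_bot] at h1
    exact commutatorElement_eq_one_iff_mul_comm.1 h1
  by_cases hQ0 : Q = ⊥
  · exact Or.inl hQ0
  right
  have hQt : Subgroup.normalClosure (Q : Set Y) = ⊤ := by
    rcases (Subgroup.normalClosure_normal (s := (Q : Set Y))).eq_bot_or_eq_top with h | h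
    · exfalso
      apply hQ0
      exact le_bot_iff.1 (h ▸ Subgroup.subset_normalClosure)
    · exact h
  have hR0 : R = ⊥ := by
    by_contra hR0
    have hRt : Subgroup.normalClosure (R : Set Y) = ⊤ := by
      rcases (Subgroup.normalClosure_normal (s := (R : Set Y))).eq_bot_or_eq_top with h | h
      · exfalso
        apply hR0
        exact le_bot_iff.1 (h ▸ Subgroup.subset_normalClosure)
      · exact h
    obtain ⟨a, b, hab⟩ := hna
    exact hab (hC' a (hQt ▸ mem_top a) b (hRt ▸ mem_top b))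
  have hW0 : W' = ⊥ := (Subgroup.map_eq_bot_iff_of_injective _ (P : Subgroup Y).subtype_injective).1 hR0
  rw [hW0, sup_bot_eq] at hsup
  apply le_antisymm hQ.1
  intro x hx
  have h1 : (⟨x, hx⟩ : (P : Subgroup Y)) ∈ U := by rw [hsup]; trivial
  rw [mem_subgroupOf] at h1
  exact h1

end Cfsg.Agent.TypeL3
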