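import Mathlib
import Cfsg.Agent.TypeL3.Control
import Cfsg.Agent.TypeL3.SimpleCase
import Cfsg.Agent.S0542
import Cfsg.Agent.SignalizersComponents.CompBasic
import Cfsg.Agent.SignalizersComponents.Components

/-!
# No components

`X` finite, `O(X) = 1`, Sylow 2-subgroup `S = AB` with `N(A)`, `N(B)` normalising `Z = A ∩ B`
(so `N(S)` controls fusion). Then `X` has no component.
-/

set_option autoImplicit false

namespace Cfsg.Agent.TypeL3

open Subgroup Cfsg.Agent.Lib.GoldschmidtFusion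
open scoped commutatorElement

universe u

variable {X : Type u} [Group X]

theorem coe_mem_normalizer_map {K : Subgroup X} {Q : Subgroup K} {x : K} :
    (x : X) ∈ normalizer ((Q.map K.subtype : Subgroup X) : Set X) ↔ x ∈ normalizer (Q : Set K) := by
  rw [mem_normalizer_iff_map_conj, mem_normalizer_iff_map_conj]
  have e : (Q.map K.subtype).map (MulAut.conj (x : X)).toMonoidHom =
      (Q.map (MulAut.conj x).toMonoidHom).map K.subtype := by
    rw [Subgroup.map_map, Subgroup.map_map]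
    rfl
  rw [e]
  exact (Subgroup.map_injective K.subtype_injective).eq_iff

/-- elements normalising `P` and `Z` normalise the stabiliser of the chain `1 ≤ Z ≤ P` -/
theorem conj_mem_chainStab {Z P : Subgroup X} {g r : X} (hgZ : g ∈ normalizer (Z : Set X))
    (hgP : g ∈ normalizer (P : Set X)) (hr : r ∈ IsAB.chainStab Z P) : g * r * g⁻¹ ∈ IsAB.chainStab Z P := by
  obtain ⟨hr1, hr2, hr3⟩ := hr
  have hgZ' := mem_normalizer_iff_map_conj.1 hgZ
  have hgP' := mem_normalizer_iff_map_conj.1 hgP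
  refine ⟨mul_mem (mul_mem hgP hr1) (inv_mem hgP), fun z hz => ?_, fun x hx => ?_⟩
  · have hz' : g⁻¹ * z * g ∈ Z := by rw [← mem_map_conj, hgZ']; exact hz
    have := hr2 _ hz'
    calc g * r * g⁻¹ * z = g * (r * (g⁻¹ * z * g)) * g⁻¹ := by group
      _ = z * (g * r * g⁻¹) := by rw [this]; group
  · have hx' : g⁻¹ * x * g ∈ P := by rw [← mem_map_conj, hgP']; exact hx
    have := hr3 _ hx'
    have h2 := conj_mem_map_conj this g
    rw [hgZ'] at h2
    convert h2 using 1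
    group

variable [Finite X]

/-- the situation of the lemma: `K` a component -/
structure NCtx (S : Sylow 2 X) (A B K : Subgroup X) : Prop where
  ab : IsAB (S : Subgroup X) A B
  core : Cfsg.oddCore X = ⊥
  NA : normalizer (A : Set X) ≤ normalizer ((A ⊓ B : Subgroup X) : Set X)
  NB : normalizer (B : Set X) ≤ normalizer ((A ⊓ B : Subgroup X) : Set X)
  comp : Cfsg.IsComponent K

namespace NCtx

variable {S : Sylow 2 X} {A B K : Subgroup X}

omit [Finite X] in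
theorem symm (h : NCtx S A B K) : NCtx S B A K where
  ab := h.ab.symm
  core := h.core
  NA := by rw [inf_comm]; exact h.NB
  NB := by rw [inf_comm]; exact h.NA
  comp := h.comp

theorem closedA (h : NCtx S A B K) : Cfsg.IsStronglyClosed A (S : Subgroup X) := h.ab.stronglyClosed_A h.NB
theorem closedB (h : NCtx S A B K) : Cfsg.IsStronglyClosed B (S : Subgroup X) := h.ab.stronglyClosed_B h.NA
theorem closedZ (h : NCtx S A B K) : Cfsg.IsStronglyClosed (A ⊓ B) (S : Subgroup X) :=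
  stronglyClosed_inf h.closedA h.closedB

theorem controls (h : NCtx S A B K) : Controls (S : Subgroup X) :=
  fun _ hQ _ hg => h.ab.control h.NA h.NB hQ hg

theorem exists_sylow (h : NCtx S A B K) : ∃ P : Sylow 2 K, (P : Subgroup K) = (S : Subgroup X).subgroupOf K :=
  Cfsg.Agent.S0542.result 2 K h.comp.1 S

/-- focal subgroup theorem in `K` -/
theorem le_of_commutators (h : NCtx S A B K) {M : Subgroup X}
    (hM : ∀ x ∈ (S : Subgroup X) ⊓ K, ∀ n ∈ normalizer (((S : Subgroup X) ⊓ K : Subgroup X) : Set X) ⊓ K,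
      x * n * x⁻¹ * n⁻¹ ∈ M) : (S : Subgroup X) ⊓ K ≤ M := by
  obtain ⟨P, hP⟩ := h.exists_sylow
  have hc : Controls (P : Subgroup K) := control_subgroup S.isPGroup' h.controls P hP
  have hperf : _root_.commutator K = ⊤ := h.comp.2.1.commutator_eq_top
  have hf := Subgroup.commutator_inf_eq_focalSubgroup P
  rw [hperf, top_inf_eq, focalSubgroup_def] at hf
  have hPmap : (P : Subgroup K).map K.subtype = (S : Subgroup X) ⊓ K := by
    rw [hP, subgroupOf_map_subtype]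
  intro x hx
  obtain ⟨hxS, hxK⟩ := mem_inf.1 hx
  have hxP : (⟨x, hxK⟩ : K) ∈ (P : Subgroup K) := by rw [hP, mem_subgroupOf]; exact hxS
  have hle : (P : Subgroup K) ≤ M.comap K.subtype := by
    rw [hf, closure_le]
    rintro g ⟨hg, y, hy, w, rfl⟩
    have hy' : w * y⁻¹ * w⁻¹ ∈ (P : Subgroup K) := by
      have := mul_mem (inv_mem hy) hg
      rw [commutatorElement_def] at this
      convert this using 1
      group
    obtain ⟨n, hn, e⟩ := hc.exists_conj (inv_mem hy) hy'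
    have e2 : ⁅y, w⁆ = y * n * y⁻¹ * n⁻¹ := by
      rw [commutatorElement_def, mul_assoc y w, mul_assoc y, ← e]; group
    show ((⁅y, w⁆ : K) : X) ∈ M
    rw [e2]
    refine hM y ?_ n ?_
    · rw [← hPmap]; exact ⟨y, hy, rfl⟩
    · refine mem_inf.2 ⟨?_, n.2⟩
      rw [← hPmap]
      exact coe_mem_normalizer_map.2 hn
  exact hle hxP

theorem inf_ne_bot (h : NCtx S A B K) : (S : Subgroup X) ⊓ K ≠ ⊥ := by
  intro h0
  obtain ⟨P, hP⟩ := h.exists_sylow
  have hP0 : (P : Subgroup K) = ⊥ := by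
    rw [Subgroup.eq_bot_iff_forall]
    intro x hx
    rw [hP, mem_subgroupOf] at hx
    have h1 : (x : X) ∈ (S : Subgroup X) ⊓ K := mem_inf.2 ⟨hx, x.2⟩
    rw [h0, mem_bot] at h1
    exact Subtype.ext h1
  have h1 : ¬ 2 ∣ Nat.card K := by
    intro hd
    exact P.ne_bot_of_dvd_card hd hP0
  have h2 : (Nat.card K).Coprime 2 := (Nat.coprime_comm.1 ((Nat.Prime.coprime_iff_not_dvd Nat.prime_two).2 h1))
  have h3 := Cfsg.Agent.SignalizersComponents.CompBasic.subnormal_coprime_le_pPrimeCore h.comp.1 h2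
  have h4 : K = ⊥ := le_bot_iff.1 (h3.trans h.core.le)
  have h5 := Cfsg.Agent.SignalizersComponents.Components.quasisimple_nontrivial h.comp.2
  rw [Subgroup.nontrivial_iff_ne_bot] at h5
  exact h5 h4

/-- if `S ∩ K` is centralised by `N_K(S ∩ K)` we have a contradiction -/
theorem false_of_central (h : NCtx S A B K)
    (hc : ∀ x ∈ (S : Subgroup X) ⊓ K, ∀ n ∈ normalizer (((S : Subgroup X) ⊓ K : Subgroup X) : Set X) ⊓ K,
      n * x = x * n) : False := by
  apply h.inf_ne_bot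
  rw [eq_bot_iff]
  apply h.le_of_commutators
  intro x hx n hn
  rw [mem_bot, ← hc x hx n hn]
  group

/-- `S` normalises `K` -/
theorem S_normalises (h : NCtx S A B K) {s : X} (hs : s ∈ (S : Subgroup X)) : s ∈ normalizer (K : Set X) := by
  rw [mem_normalizer_iff_map_conj]
  by_contra hne
  have hL := Cfsg.Agent.SignalizersComponents.Components.isComponent_conj s h.comp
  have hcomm := Cfsg.Agent.SignalizersComponents.Components.component_le_centralizer_of_ne h.comp hL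
    (fun e => hne e.symm)
  set L := K.map (MulAut.conj s).toMonoidHom with hLdef
  have hKL : ∀ k ∈ K, ∀ l ∈ L, k * l = l * k := fun k hk l hl => ((mem_centralizer_iff.1 (hcomm hk)) l hl).symm
  have hZs := fun {z : X} (hz : z ∈ A ⊓ B) {t : X} (ht : t ∈ (S : Subgroup X)) => h.ab.comm_Z hz ht
  have key : (S : Subgroup X) ⊓ K ≤ centralizer (K : Set X) := by
    apply h.le_of_commutators
    intro x hx d hd
    obtain ⟨hxS, hxK⟩ := mem_inf.1 hx
    obtain ⟨hdN, hdK⟩ := mem_inf.1 hd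
    have hxL : s * x * s⁻¹ ∈ L := conj_mem_map_conj hxK s
    have hxS' : s * x * s⁻¹ ∈ (S : Subgroup X) := mul_mem (mul_mem hs hxS) (inv_mem hs)
    -- `ζ = x⁻¹ x^s ∈ Z`
    have hζ : x⁻¹ * (s * x * s⁻¹) ∈ A ⊓ B := by
      have := h.ab.comm_mem (inv_mem hxS) hs
      convert this using 1
      group
    have hdx : d * x⁻¹ * d⁻¹ ∈ (S : Subgroup X) ⊓ K := by
      have := conj_mem_of_mem_normalizer hdN (inv_mem hx)
      exact this
    have e1 : d * (x⁻¹ * (s * x * s⁻¹)) * d⁻¹ = d * x⁻¹ * d⁻¹ * (s * x * s⁻¹) := by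
      have := hKL d hdK _ hxL
      calc d * (x⁻¹ * (s * x * s⁻¹)) * d⁻¹ = d * x⁻¹ * d⁻¹ * (d * (s * x * s⁻¹)) * d⁻¹ := by group
        _ = d * x⁻¹ * d⁻¹ * (s * x * s⁻¹) := by rw [this]; group
    have h1 : d * (x⁻¹ * (s * x * s⁻¹)) * d⁻¹ ∈ A ⊓ B := by
      apply h.closedZ.2 _ hζ d
      rw [e1]
      exact mul_mem (mem_inf.1 hdx).1 hxS'
    rw [e1] at h1
    have h2 : d * x⁻¹ * d⁻¹ * x ∈ A ⊓ B := by
      have := mul_mem h1 (inv_mem hζ)
      convert this using 1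
      group
    have h3 : x * d * x⁻¹ * d⁻¹ = d * x⁻¹ * d⁻¹ * x := by
      have := hZs h2 hxS
      calc x * d * x⁻¹ * d⁻¹ = x * (d * x⁻¹ * d⁻¹ * x) * x⁻¹ := by group
        _ = d * x⁻¹ * d⁻¹ * x := by rw [← this]; group
    rw [h3]
    have h4 : d * x⁻¹ * d⁻¹ * x ∈ K := mul_mem (mem_inf.1 hdx).2 hxK
    have h5 : d * x⁻¹ * d⁻¹ * x ∈ L := by
      rw [hLdef, mem_map_conj]
      have := hZs h2 (inv_mem hs)
      have e : s⁻¹ * (d * x⁻¹ * d⁻¹ * x) * s = d * x⁻¹ * d⁻¹ * x := by rw [← this]; group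
      rw [e]; exact h4
    exact mem_centralizer_iff.2 fun k hk => hKL k hk _ h5
  apply h.false_of_central
  intro x hx n hn
  exact (mem_centralizer_iff.1 (key hx)) n (mem_inf.1 hn).2

theorem conj_K (h : NCtx S A B K) {s k : X} (hs : s ∈ (S : Subgroup X)) (hk : k ∈ K) : s * k * s⁻¹ ∈ K :=
  conj_mem_of_mem_normalizer (h.S_normalises hs) hk

/-- `S` stabilises the chain `1 ≤ Z ∩ K ≤ S ∩ K` -/
theorem S_le_chainStab (h : NCtx S A B K) :
    (S : Subgroup X) ≤ IsAB.chainStab ((A ⊓ B) ⊓ K) ((S : Subgroup X) ⊓ K) := by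
  intro s hs
  refine ⟨?_, fun z hz => (h.ab.comm_Z (mem_inf.1 hz).1 hs).symm, fun x hx => ?_⟩
  · rw [mem_normalizer_iff_map_conj, Subgroup.map_inf _ _ _ (MulAut.conj s).injective,
      mem_normalizer_iff_map_conj.1 (le_normalizer hs), mem_normalizer_iff_map_conj.1 (h.S_normalises hs)]
  · obtain ⟨hxS, hxK⟩ := mem_inf.1 hx
    exact mem_inf.2 ⟨h.ab.comm_mem hs hxS, mul_mem (h.conj_K hs hxK) (inv_mem hxK)⟩

/-- elements of `N_K(S ∩ K)` normalise `Z ∩ K` -/
theorem normalises_ZK (h : NCtx S A B K) {g : X}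
    (hg : g ∈ normalizer (((S : Subgroup X) ⊓ K : Subgroup X) : Set X) ⊓ K) :
    g ∈ normalizer (((A ⊓ B) ⊓ K : Subgroup X) : Set X) := by
  obtain ⟨hgN, hgK⟩ := mem_inf.1 hg
  rw [mem_normalizer_iff_map_conj]
  apply Subgroup.eq_of_le_of_card_ge _ (by rw [card_map_conj])
  rintro _ ⟨z, hz, rfl⟩
  obtain ⟨hzZ, hzK⟩ := mem_inf.1 hz
  have h1 := conj_mem_of_mem_normalizer hgN (mem_inf.2 ⟨h.ab.Z_le hzZ, hzK⟩)
  exact mem_inf.2 ⟨h.closedZ.2 z hzZ g (mem_inf.1 h1).1, (mem_inf.1 h1).2⟩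

/-- `N₀ = C₀ N₁` -/
theorem exists_mul_mem (h : NCtx S A B K) {g : X}
    (hg : g ∈ normalizer (((S : Subgroup X) ⊓ K : Subgroup X) : Set X) ⊓ K) :
    ∃ c ∈ IsAB.chainStab ((A ⊓ B) ⊓ K) ((S : Subgroup X) ⊓ K) ⊓ K,
      c * g ∈ normalizer ((S : Subgroup X) : Set X) := by
  set R := IsAB.chainStab ((A ⊓ B) ⊓ K) ((S : Subgroup X) ⊓ K) with hR
  have hSR : (S : Subgroup X) ≤ R := h.S_le_chainStab
  have hSn : (S : Subgroup X) ≤ normalizer ((R ⊓ K : Subgroup X) : Set X) := by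
    intro s hs
    rw [mem_normalizer_iff_map_conj, Subgroup.map_inf _ _ _ (MulAut.conj s).injective,
      mem_normalizer_iff_map_conj.1 (le_normalizer (hSR hs)),
      mem_normalizer_iff_map_conj.1 (h.S_normalises hs)]
  have hmem : ∀ x, x ∈ (S : Subgroup X) ⊔ (R ⊓ K) ↔ ∃ a ∈ (S : Subgroup X), ∃ b ∈ R ⊓ K, x = a * b :=
    fun x => mem_sup_of_le_normalizer hSn
  have hgR := fun r (hr : r ∈ R) => conj_mem_chainStab (h.normalises_ZK hg) (mem_inf.1 hg).1 hr
  have hgK := (mem_inf.1 hg).2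
  obtain ⟨r, hr, hrg⟩ := exists_conj_normalizer S (R := (S : Subgroup X) ⊔ (R ⊓ K)) le_sup_left (g := g) (by
    intro r hr
    obtain ⟨s, hs, c, hc, rfl⟩ := (hmem r).1 hr
    obtain ⟨hcR, hcK⟩ := mem_inf.1 hc
    refine (hmem _).2 ⟨s, hs, s⁻¹ * (g * s * g⁻¹) * (g * c * g⁻¹), mem_inf.2 ⟨?_, ?_⟩, by group⟩
    · exact mul_mem (mul_mem (inv_mem (hSR hs)) (hgR s (hSR hs))) (hgR c hcR)
    · refine mul_mem ?_ (mul_mem (mul_mem hgK hcK) (inv_mem hgK))
      have h1 := h.conj_K (inv_mem hs) hgK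
      have h2 := mul_mem h1 (inv_mem hgK)
      convert h2 using 1
      group)
  obtain ⟨s, hs, c, hc, rfl⟩ := (hmem r).1 hr
  refine ⟨c, hc, ?_⟩
  have := mul_mem (inv_mem (le_normalizer hs)) hrg
  simpa [mul_assoc] using this

/-- `S ∩ K = (A ∩ K)(B ∩ K)` -/
theorem exists_mul_inf (h : NCtx S A B K) {x : X} (hx : x ∈ (S : Subgroup X) ⊓ K) :
    ∃ a ∈ A ⊓ K, ∃ b ∈ B ⊓ K, x = a * b := by
  have hAn : A ⊓ K ≤ normalizer ((B ⊓ K : Subgroup X) : Set X) := by
    intro a ha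
    have haS := h.ab.A_le (mem_inf.1 ha).1
    rw [mem_normalizer_iff_map_conj, Subgroup.map_inf _ _ _ (MulAut.conj a).injective,
      mem_normalizer_iff_map_conj.1 (h.ab.S_le_normalizer_B haS),
      mem_normalizer_iff_map_conj.1 (h.S_normalises haS)]
  rw [← mem_sup_of_le_normalizer hAn]
  refine h.le_of_commutators ?_ hx
  intro x hx g hg
  obtain ⟨hxS, hxK⟩ := mem_inf.1 hx
  obtain ⟨c, hc, hn⟩ := h.exists_mul_mem hg
  obtain ⟨⟨hc1, hc2, hc3⟩, hcK⟩ := mem_inf.1 hc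
  have hgK := (mem_inf.1 hg).2
  have hnK : c * g ∈ K := mul_mem hcK hgK
  set n := c * g with hndef
  have hnN : n ∈ normalizer (((S : Subgroup X) ⊓ K : Subgroup X) : Set X) := mul_mem hc1 (mem_inf.1 hg).1
  -- `g x⁻¹ g⁻¹ = c⁻¹ (n x⁻¹ n⁻¹) c`
  have hy : n * x⁻¹ * n⁻¹ ∈ (S : Subgroup X) ⊓ K := conj_mem_of_mem_normalizer hnN (inv_mem hx)
  have hgx : g * x⁻¹ * g⁻¹ ∈ (S : Subgroup X) ⊓ K := conj_mem_of_mem_normalizer (mem_inf.1 hg).1 (inv_mem hx)
  have h1 := hc3 _ hgx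
  have e1 : c * (g * x⁻¹ * g⁻¹) * c⁻¹ = n * x⁻¹ * n⁻¹ := by rw [hndef]; group
  rw [e1] at h1
  -- so `g x⁻¹ g⁻¹ = ζ⁻¹ (n x⁻¹ n⁻¹)`
  set ζ := n * x⁻¹ * n⁻¹ * (g * x⁻¹ * g⁻¹)⁻¹ with hζ
  obtain ⟨hζZ, hζK⟩ := mem_inf.1 h1
  have e2 : g * x⁻¹ * g⁻¹ = ζ⁻¹ * (n * x⁻¹ * n⁻¹) := by rw [hζ]; group
  have e3 : x * g * x⁻¹ * g⁻¹ = ζ⁻¹ * (x * (n * x⁻¹ * n⁻¹)) := by
    have := h.ab.comm_Z (inv_mem hζZ) hxS
    calc x * g * x⁻¹ * g⁻¹ = x * (g * x⁻¹ * g⁻¹) := by group
      _ = (x * ζ⁻¹) * (n * x⁻¹ * n⁻¹) := by rw [e2]; group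
      _ = ζ⁻¹ * (x * (n * x⁻¹ * n⁻¹)) := by rw [← this]; group
  rw [e3]
  have hζA : ζ⁻¹ ∈ A ⊓ K := mem_inf.2 ⟨(mem_inf.1 (inv_mem hζZ)).1, inv_mem hζK⟩
  refine mul_mem (mem_sup_left hζA) ?_
  -- decompose `x = a b`
  obtain ⟨a, ha, b, hb, rfl⟩ := h.ab.prod x hxS
  have haS := h.ab.A_le ha
  have hbS := h.ab.B_le hb
  have hnA := h.ab.normalizer_le_A hn
  have hnB := h.ab.normalizer_le_B hn
  have hα : a * (n * a⁻¹ * n⁻¹) ∈ A ⊓ K := by
    refine mem_inf.2 ⟨mul_mem ha (conj_mem_of_mem_normalizer hnA (inv_mem ha)), ?_⟩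
    have := mul_mem (h.conj_K haS hnK) (inv_mem hnK)
    convert this using 1
    group
  have hβ : a * (b * (n * b⁻¹ * n⁻¹)) * a⁻¹ ∈ B ⊓ K := by
    have hβ0 : b * (n * b⁻¹ * n⁻¹) ∈ B ⊓ K := by
      refine mem_inf.2 ⟨mul_mem hb (conj_mem_of_mem_normalizer hnB (inv_mem hb)), ?_⟩
      have := mul_mem (h.conj_K hbS hnK) (inv_mem hnK)
      convert this using 1
      group
    exact mem_inf.2 ⟨conj_mem_of_mem_normalizer (h.ab.S_le_normalizer_B haS) (mem_inf.1 hβ0).1,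
      h.conj_K haS (mem_inf.1 hβ0).2⟩
  have e4 : a * b * (n * (a * b)⁻¹ * n⁻¹) = a * (b * (n * b⁻¹ * n⁻¹)) * a⁻¹ * (a * (n * a⁻¹ * n⁻¹)) := by
    group
  rw [e4]
  exact mul_mem (mem_sup_right hβ) (mem_sup_left hα)

theorem oddCore_K (h : NCtx S A B K) : Cfsg.pPrimeCore 2 K = ⊥ := by
  have h1 := Cfsg.Agent.SignalizersComponents.CompBasic.map_subtype_pPrimeCore_of_subnormal 2 h.comp.1
  have h2 : Cfsg.pPrimeCore 2 X = ⊥ := h.core
  rw [h2, inf_bot_eq] at h1
  exact (Subgroup.map_eq_bot_iff_of_injective _ K.subtype_injective).1 h1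

theorem center_pow (h : NCtx S A B K) {c : K} (hc : c ∈ center K) : ∃ k : ℕ, c ^ 2 ^ k = 1 := by
  obtain ⟨k, m, hm, hkm⟩ := Nat.exists_eq_pow_mul_and_not_dvd (orderOf_pos c).ne' 2 (by norm_num)
  refine ⟨k, ?_⟩
  have hd : orderOf (c ^ 2 ^ k) = m := by
    rw [orderOf_pow_of_dvd (pow_ne_zero _ two_ne_zero) (by rw [hkm]; exact Dvd.intro _ rfl), hkm,
      Nat.mul_div_cancel_left _ (pow_pos two_pos _)]
  have hdc : c ^ 2 ^ k ∈ center K := pow_mem hc _
  have hn : (zpowers (c ^ 2 ^ k)).Normal := by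
    refine ⟨fun y hy g => ?_⟩
    have h1 : y ∈ center K := (zpowers_le.2 hdc) hy
    rw [mem_center_iff.1 h1 g, mul_inv_cancel_right]
    exact hy
  have h1 : zpowers (c ^ 2 ^ k) ≤ Cfsg.pPrimeCore 2 K := by
    apply Cfsg.Agent.Lib.Cores.le_pPrimeCore hn
    rw [Nat.card_zpowers, hd]
    exact Nat.coprime_comm.1 ((Nat.Prime.coprime_iff_not_dvd Nat.prime_two).2 hm)
  rw [h.oddCore_K] at h1
  exact mem_bot.1 (h1 (mem_zpowers _))

theorem center_le (h : NCtx S A B K) (P : Sylow 2 K) : center K ≤ (P : Subgroup K) := by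
  have : IsPGroup 2 (center K) := by
    rintro ⟨c, hc⟩
    obtain ⟨k, hk⟩ := h.center_pow hc
    exact ⟨k, Subtype.ext hk⟩
  exact this.le_sylow_of_normal P

/-- the image of a subgroup in `K / Z(K)` -/
def bar (K Q : Subgroup X) : Subgroup (K ⧸ center K) := (Q.subgroupOf K).map (QuotientGroup.mk' (center K))

omit [Finite X] in
theorem mem_bar {K Q : Subgroup X} {x : K} :
    QuotientGroup.mk' (center K) x ∈ bar K Q ↔ ∃ y : K, (y : X) ∈ Q ∧ ∃ c ∈ center K, x = y * c := by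
  constructor
  · rintro ⟨y, hy, e⟩
    exact ⟨y, hy, y⁻¹ * x, QuotientGroup.eq.1 e, by group⟩
  · rintro ⟨y, hy, c, hc, rfl⟩
    exact ⟨y, hy, QuotientGroup.eq.2 (by simpa using hc)⟩

theorem closed_bar (h : NCtx S A B K) {P : Sylow 2 K} (hP : (P : Subgroup K) = (S : Subgroup X).subgroupOf K)
    {Q : Subgroup X} (hQ : Cfsg.IsStronglyClosed Q (S : Subgroup X)) :
    Cfsg.IsStronglyClosed (bar K Q)
      (P.mapSurjective (QuotientGroup.mk'_surjective (center K)) : Subgroup (K ⧸ center K)) := by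
  rw [Sylow.coe_mapSurjective, hP]
  refine ⟨Subgroup.map_mono (Subgroup.comap_mono hQ.1), ?_⟩
  rintro _ ⟨x, hx, rfl⟩ g hg
  obtain ⟨g, rfl⟩ := QuotientGroup.mk'_surjective (center K) g
  rw [← map_inv, ← map_mul, ← map_mul] at hg ⊢
  obtain ⟨y, hy, c, hc, e⟩ := mem_bar.1 hg
  have hcS : (c : X) ∈ (S : Subgroup X) := by
    have := h.center_le P hc
    rw [hP, mem_subgroupOf] at this
    exact this
  have h1 : ((g * x * g⁻¹ : K) : X) ∈ (S : Subgroup X) := by
    rw [e]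
    exact mul_mem hy hcS
  exact ⟨g * x * g⁻¹, hQ.2 x hx g h1, rfl⟩

omit [Finite X] in
theorem not_comm_bar (h : NCtx S A B K) : ∃ a b : K ⧸ center K, a * b ≠ b * a := by
  by_contra hcon
  push Not at hcon
  have hs : IsSimpleGroup (K ⧸ center K) := h.comp.2.2
  have hperf : _root_.commutator K = ⊤ := h.comp.2.1.commutator_eq_top
  have h1 : _root_.commutator (K ⧸ center K) = ⊥ := by
    rw [_root_.commutator_eq_bot_iff_center_eq_top, eq_top_iff]
    intro x _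
    exact mem_center_iff.2 fun y => hcon y x
  have h2 : (_root_.commutator K).map (QuotientGroup.mk' (center K)) = _root_.commutator (K ⧸ center K) := by
    rw [commutator_def, commutator_def, Subgroup.map_commutator,
      Subgroup.map_top_of_surjective _ (QuotientGroup.mk'_surjective (center K))]
  rw [hperf, Subgroup.map_top_of_surjective _ (QuotientGroup.mk'_surjective (center K)), h1] at h2
  obtain ⟨x, hx⟩ := exists_ne (1 : K ⧸ center K)
  apply hx
  rw [← mem_bot, ← h2]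
  exact mem_top x

/-- the main case: the image of `A` is the whole Sylow subgroup of `K / Z(K)` -/
theorem false_of_bar_eq (h : NCtx S A B K) {P : Sylow 2 K}
    (hP : (P : Subgroup K) = (S : Subgroup X).subgroupOf K)
    (hA : bar K A = (P.mapSurjective (QuotientGroup.mk'_surjective (center K)) : Subgroup (K ⧸ center K)))
    (hZ : bar K (A ⊓ B) = ⊥ ∨
      bar K (A ⊓ B) = (P.mapSurjective (QuotientGroup.mk'_surjective (center K)) : Subgroup (K ⧸ center K))) :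
    False := by
  have hmP : ∀ {x : K}, (x : X) ∈ (S : Subgroup X) → x ∈ (P : Subgroup K) := by
    intro x hx; rw [hP, mem_subgroupOf]; exact hx
  have hmS : ∀ {x : K}, x ∈ (P : Subgroup K) → (x : X) ∈ (S : Subgroup X) := by
    intro x hx; rw [hP, mem_subgroupOf] at hx; exact hx
  -- (i)
  have hi : ∀ x ∈ (P : Subgroup K), ∃ y : K, (y : X) ∈ A ∧ ∃ c ∈ center K, x = y * c := by
    intro x hx
    rw [← mem_bar, hA, Sylow.coe_mapSurjective]
    exact ⟨x, hx, rfl⟩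
  -- (ii)
  have hii : ∀ x ∈ (P : Subgroup K), ∀ y ∈ (P : Subgroup K), x * y = y * x := by
    intro x hx y hy
    obtain ⟨a, ha, c, hc, rfl⟩ := hi x hx
    obtain ⟨b, hb, d, hd, rfl⟩ := hi y hy
    have hab : a * b = b * a := Subtype.ext (h.ab.A_comm a ha b hb)
    have hcc := fun g => mem_center_iff.1 hc g
    have hdd := fun g => mem_center_iff.1 hd g
    calc a * c * (b * d) = a * (c * b) * d := by group
      _ = (a * b) * (c * d) := by rw [← hcc b]; group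
      _ = b * (a * d) * c := by rw [hab, hdd c]; group
      _ = b * d * (a * c) := by rw [hdd a]; group
  -- (iii)
  have hiii : ∀ c ∈ center K, c = 1 := by
    intro c hc
    obtain ⟨k, hk⟩ := h.center_pow hc
    let _ : CommGroup (P : Subgroup K) :=
      { (inferInstance : Group (P : Subgroup K)) with
        mul_comm := fun x y => Subtype.ext (hii x x.2 y y.2) }
    have h1 := MonoidHom.transfer_eq_pow (MonoidHom.id (P : Subgroup K)) c (by
      intro k g _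
      rw [mul_assoc, ← mem_center_iff.1 (pow_mem hc k) g, inv_mul_cancel_left])
    rw [Cfsg.Agent.SignalizersComponents.CompBasic.hom_eq_one_of_perfect h.comp.2.1] at h1
    have h2 : c ^ (P : Subgroup K).index = 1 := (congrArg Subtype.val h1).symm
    have h3 := orderOf_dvd_of_pow_eq_one h2
    have h4 := orderOf_dvd_of_pow_eq_one hk
    obtain ⟨j, -, hj⟩ := (Nat.dvd_prime_pow Nat.prime_two).1 h4
    rcases Nat.eq_zero_or_pos j with h5 | h5
    · rw [h5, pow_zero] at hj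
      exact orderOf_eq_one_iff.1 hj
    · exfalso
      apply P.not_dvd_index
      exact (dvd_pow_self 2 h5.ne').trans (hj ▸ h3)
  have bar_sub : ∀ {Q : Subgroup X} {x : K}, QuotientGroup.mk' (center K) x ∈ bar K Q → (x : X) ∈ Q := by
    intro Q x hx
    obtain ⟨y, hy, c, hc, rfl⟩ := mem_bar.1 hx
    rw [hiii c hc, mul_one]
    exact hy
  rcases hZ with hZ | hZ
  · -- `Z ∩ K = 1`
    have hZK : ∀ x ∈ (A ⊓ B) ⊓ K, x = 1 := by
      intro x hx
      obtain ⟨hxZ, hxK⟩ := mem_inf.1 hx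
      have h1 : QuotientGroup.mk' (center K) ⟨x, hxK⟩ ∈ bar K (A ⊓ B) :=
        mem_bar.2 ⟨⟨x, hxK⟩, hxZ, 1, one_mem _, (mul_one _).symm⟩
      rw [hZ, mem_bot] at h1
      have h2 : (⟨x, hxK⟩ : K) ∈ center K := (QuotientGroup.eq_one_iff _).1 h1
      exact congrArg Subtype.val (hiii _ h2)
    apply h.inf_ne_bot
    rw [Subgroup.eq_bot_iff_forall]
    intro x hx
    obtain ⟨hxS, hxK⟩ := mem_inf.1 hx
    refine hZK x (mem_inf.2 ⟨?_, hxK⟩)
    apply h.ab.mem_Z_of_comm hxS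
    intro t ht
    have h1 : t * x * t⁻¹ * x⁻¹ = 1 :=
      hZK _ (mem_inf.2 ⟨h.ab.comm_mem ht hxS, mul_mem (h.conj_K ht hxK) (inv_mem hxK)⟩)
    calc t * x = (t * x * t⁻¹ * x⁻¹) * (x * t) := by group
      _ = x * t := by rw [h1, one_mul]
  · -- `S ∩ K ≤ Z`
    have hSZ : ∀ x ∈ (S : Subgroup X) ⊓ K, x ∈ A ⊓ B := by
      intro x hx
      obtain ⟨hxS, hxK⟩ := mem_inf.1 hx
      apply bar_sub (x := ⟨x, hxK⟩)
      rw [hZ, Sylow.coe_mapSurjective]
      exact ⟨⟨x, hxK⟩, hmP hxS, rfl⟩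
    apply h.false_of_central
    intro x hx n hn
    obtain ⟨c, hc, hm⟩ := h.exists_mul_mem hn
    obtain ⟨⟨hc1, hc2, hc3⟩, hcK⟩ := mem_inf.1 hc
    set m := c * n with hmdef
    have hmK : m ∈ K := mul_mem hcK (mem_inf.1 hn).2
    have hxZ := hSZ x hx
    have hcx : c * x = x * c := hc2 x (mem_inf.2 ⟨hxZ, (mem_inf.1 hx).2⟩)
    -- `m s m⁻¹ s⁻¹ ∈ Z` for `s ∈ S`
    have hf : ∀ s ∈ (S : Subgroup X), m * s * m⁻¹ * s⁻¹ ∈ A ⊓ B := by
      intro s hs
      apply hSZ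
      refine mem_inf.2 ⟨mul_mem (conj_mem_of_mem_normalizer hm hs) (inv_mem hs), ?_⟩
      have := mul_mem hmK (h.conj_K hs (inv_mem hmK))
      convert this using 1
      group
    have hder : ⁅(S : Subgroup X), (S : Subgroup X)⁆ ≤ centralizer {m} := by
      rw [Subgroup.commutator_le]
      intro s hs t ht
      rw [mem_centralizer_singleton_iff, commutatorElement_def]
      have hfs := hf s hs
      have hft := hf t ht
      set u := m * s * m⁻¹ * s⁻¹ with hu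
      set v := m * t * m⁻¹ * t⁻¹ with hv
      have es : m * s * m⁻¹ = u * s := by rw [hu]; group
      have et : m * t * m⁻¹ = v * t := by rw [hv]; group
      have hu1 := fun {w : X} (hw : w ∈ (S : Subgroup X)) => h.ab.comm_Z hfs hw
      have hv1 := fun {w : X} (hw : w ∈ (S : Subgroup X)) => h.ab.comm_Z hft hw
      have hvS := h.ab.Z_le hft
      have huS := h.ab.Z_le hfs
      have e1 : m * (s * t * s⁻¹ * t⁻¹) * m⁻¹ = s * t * s⁻¹ * t⁻¹ := by
        calc m * (s * t * s⁻¹ * t⁻¹) * m⁻¹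
            = (m * s * m⁻¹) * (m * t * m⁻¹) * (m * s * m⁻¹)⁻¹ * (m * t * m⁻¹)⁻¹ := by group
          _ = u * (s * v) * t * s⁻¹ * u⁻¹ * t⁻¹ * v⁻¹ := by rw [es, et]; group
          _ = u * (v * (s * t * s⁻¹)) * u⁻¹ * t⁻¹ * v⁻¹ := by rw [← hv1 hs]; group
          _ = (v * (s * t * s⁻¹)) * u * u⁻¹ * t⁻¹ * v⁻¹ := by
              rw [hu1 (mul_mem hvS (mul_mem (mul_mem hs ht) (inv_mem hs)))]
          _ = v * (s * t * s⁻¹ * t⁻¹) * v⁻¹ := by group
          _ = s * t * s⁻¹ * t⁻¹ := by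
              rw [hv1 (mul_mem (mul_mem (mul_mem hs ht) (inv_mem hs)) (inv_mem ht)), mul_inv_cancel_right]
      calc s * t * s⁻¹ * t⁻¹ * m = (m * (s * t * s⁻¹ * t⁻¹) * m⁻¹) * m := by rw [e1]
        _ = m * (s * t * s⁻¹ * t⁻¹) := by group
    have hmx : x * m = m * x := mem_centralizer_singleton_iff.1 (hder (h.ab.der hxZ))
    have e : n = c⁻¹ * m := by rw [hmdef]; group
    rw [e]
    calc c⁻¹ * m * x = c⁻¹ * (x * m) := by rw [hmx]; group
      _ = c⁻¹ * (x * c) * c⁻¹ * m := by group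
      _ = c⁻¹ * (c * x) * c⁻¹ * m := by rw [hcx]
      _ = x * (c⁻¹ * m) := by group

theorem false (h1169 : H1169.{u}) (h1171 : H1171.{u}) (h : NCtx S A B K) : False := by
  obtain ⟨P, hP⟩ := h.exists_sylow
  have hs : IsSimpleGroup (K ⧸ center K) := h.comp.2.2
  have hna := h.not_comm_bar
  set P' := P.mapSurjective (QuotientGroup.mk'_surjective (center K)) with hP'
  have hcA := h.closed_bar hP h.closedA
  have hcB := h.closed_bar hP h.closedB
  have hcZ := h.closed_bar hP h.closedZ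
  have hcomm : ∀ {Q : Subgroup X}, (∀ x ∈ Q, ∀ y ∈ Q, x * y = y * x) → ∀ x ∈ bar K Q, ∀ y ∈ bar K Q,
      x * y = y * x := by
    rintro Q hQ _ ⟨x, hx, rfl⟩ _ ⟨y, hy, rfl⟩
    rw [← map_mul, ← map_mul]
    congr 1
    exact Subtype.ext (hQ x hx y hy)
  have hsq : ∀ {Q : Subgroup X}, (∀ x ∈ Q, x * x = 1) → ∀ x ∈ bar K Q, x * x = 1 := by
    rintro Q hQ _ ⟨x, hx, rfl⟩
    rw [← map_mul]
    have : x * x = 1 := Subtype.ext (hQ x hx)
    rw [this, map_one]
  have hprod : ∀ x ∈ (P' : Subgroup (K ⧸ center K)), ∃ y ∈ bar K A, ∃ z ∈ bar K B, x = y * z := by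
    intro x hx
    rw [hP', Sylow.coe_mapSurjective] at hx
    obtain ⟨x, hx, rfl⟩ := hx
    have hx' : (x : X) ∈ (S : Subgroup X) ⊓ K := by
      refine mem_inf.2 ⟨?_, x.2⟩
      have : x ∈ (S : Subgroup X).subgroupOf K := hP ▸ hx
      rwa [mem_subgroupOf] at this
    obtain ⟨a, ha, b, hb, e⟩ := h.exists_mul_inf hx'
    refine ⟨_, ⟨⟨a, (mem_inf.1 ha).2⟩, (mem_inf.1 ha).1, rfl⟩, _, ⟨⟨b, (mem_inf.1 hb).2⟩, (mem_inf.1 hb).1, rfl⟩, ?_⟩
    rw [← map_mul]
    congr 1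
    exact Subtype.ext e
  obtain ⟨hPc, hP2⟩ := comm_of_two_closed h1169 P' hcA hcB (hcomm h.ab.A_comm) (hcomm h.ab.B_comm)
    (hsq h.ab.A_sq) (hsq h.ab.B_sq) hprod
  have hZ := closed_eq_bot_or_eq h1171 hna P' hPc hP2 hcZ
  rcases closed_eq_bot_or_eq h1171 hna P' hPc hP2 hcA with hA | hA
  · rcases closed_eq_bot_or_eq h1171 hna P' hPc hP2 hcB with hB | hB
    · -- `S ∩ K ≤ Z(K)`
      apply h.false_of_central
      intro x hx n hn
      obtain ⟨a, ha, b, hb, e⟩ := h.exists_mul_inf hx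
      have cen : ∀ {Q : Subgroup X}, bar K Q = ⊥ → ∀ y ∈ Q ⊓ K, ∀ k ∈ K, k * y = y * k := by
        intro Q hQ y hy k hk
        obtain ⟨hyQ, hyK⟩ := mem_inf.1 hy
        have h1 : QuotientGroup.mk' (center K) ⟨y, hyK⟩ ∈ bar K Q :=
          mem_bar.2 ⟨⟨y, hyK⟩, hyQ, 1, one_mem _, (mul_one _).symm⟩
        rw [hQ, mem_bot] at h1
        have h2 : (⟨y, hyK⟩ : K) ∈ center K := (QuotientGroup.eq_one_iff _).1 h1
        exact congrArg Subtype.val (mem_center_iff.1 h2 ⟨k, hk⟩)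
      have hnK := (mem_inf.1 hn).2
      have h1 := cen hA a ha n hnK
      have h2 := cen hB b hb n hnK
      rw [e]
      calc n * (a * b) = (n * a) * b := by group
        _ = a * (n * b) := by rw [h1]; group
        _ = a * b * n := by rw [h2]; group
    · refine h.symm.false_of_bar_eq hP hB ?_
      rw [inf_comm]
      exact hZ
  · exact h.false_of_bar_eq hP hA hZ

end NCtx

/-- **No components** -/
theorem not_hasComponent (h1169 : H1169.{u}) (h1171 : H1171.{u}) {S : Sylow 2 X} {A B : Subgroup X}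
    (hab : IsAB (S : Subgroup X) A B) (hcore : Cfsg.oddCore X = ⊥)
    (hA : normalizer (A : Set X) ≤ normalizer ((A ⊓ B : Subgroup X) : Set X))
    (hB : normalizer (B : Set X) ≤ normalizer ((A ⊓ B : Subgroup X) : Set X)) : ¬ Cfsg.HasComponent X := by
  rintro ⟨K, hK⟩
  exact NCtx.false h1169 h1171 ⟨hab, hcore, hA, hB, hK⟩

end Cfsg.Agent.TypeL3
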