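import Mathlib
import Cfsg.Agent.TypeL3.Closed

/-!
# The spread of `A`

`S = AB` of type `L₃(q)`: the conjugates of `Z` in `N(A)` form a spread of `A`, and `N(A)` is transitive
on `A ∖ {1}`.
-/

set_option autoImplicit false

namespace Cfsg.Agent.TypeL3

open Subgroup Cfsg.Agent.Lib.GoldschmidtFusion
open scoped commutatorElement

universe u w

variable {G : Type u} [Group G]

/-- `S = AB` of type `L₃(q)` -/
structure IsL3 (S A B : Subgroup G) (q : ℕ) : Prop extends IsAB S A B where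
  card_Z : Nat.card (A ⊓ B : Subgroup G) = q
  card_A : Nat.card A = q ^ 2
  card_B : Nat.card B = q ^ 2
  commA : ∀ a ∈ A, a ∉ B → ∀ z ∈ A ⊓ B, ∃ b ∈ B, a * b * a⁻¹ * b⁻¹ = z
  commB : ∀ b ∈ B, b ∉ A → ∀ z ∈ A ⊓ B, ∃ a ∈ A, b * a * b⁻¹ * a⁻¹ = z

theorem eq_inv_of_sq {x : G} (h : x * x = 1) : x⁻¹ = x := inv_eq_of_mul_eq_one_left h

theorem not_mem_inf_iff_of_mem {A B : Subgroup G} {x : G} (hx : x ∈ A) : x ∉ A ⊓ B ↔ x ∉ B :=
  ⟨fun h h1 => h (mem_inf.2 ⟨hx, h1⟩), fun h h1 => h (mem_inf.1 h1).2⟩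

namespace IsL3

variable {S A B : Subgroup G} {q : ℕ}

theorem symm (h : IsL3 S A B q) : IsL3 S B A q :=
  { h.toIsAB.symm with
    card_Z := by rw [inf_comm]; exact h.card_Z
    card_A := h.card_B
    card_B := h.card_A
    commA := by
      intro b hb hbA z hz
      rw [inf_comm] at hz
      exact h.commB b hb hbA z hz
    commB := by
      intro a ha haB z hz
      rw [inf_comm] at hz
      exact h.commA a ha haB z hz }

theorem map {H : Type w} [Group H] (h : IsL3 S A B q) (f : G →* H) (hf : ∀ x ∈ S, f x = 1 → x = 1) :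
    IsL3 (S.map f) (A.map f) (B.map f) q := by
  have hinf := IsAB.map_inf_of_ker h.A_le h.B_le hf
  have hc : ∀ X : Subgroup G, X ≤ S → Nat.card (X.map f) = Nat.card X := by
    intro X hX
    refine (Nat.card_congr (Equiv.ofBijective (fun x : X => (⟨f x, mem_map_of_mem f x.2⟩ : X.map f)) ⟨?_, ?_⟩)).symm
    · intro x y hxy
      exact Subtype.ext (IsAB.inj_of_ker hf (hX x.2) (hX y.2) (congrArg Subtype.val hxy))
    · rintro ⟨_, x, hx, rfl⟩
      exact ⟨⟨x, hx⟩, rfl⟩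
  exact
  { h.toIsAB.map f hf with
    card_Z := by rw [hinf, hc _ h.Z_le, h.card_Z]
    card_A := by rw [hc _ h.A_le, h.card_A]
    card_B := by rw [hc _ h.B_le, h.card_B]
    commA := by
      rintro _ ⟨a, ha, rfl⟩ hab z hz
      rw [hinf] at hz
      obtain ⟨z, hz, rfl⟩ := hz
      obtain ⟨b, hb, e⟩ := h.commA a ha (fun h1 => hab ⟨a, h1, rfl⟩) z hz
      exact ⟨f b, ⟨b, hb, rfl⟩, by rw [← e]; simp only [map_mul, map_inv]⟩
    commB := by
      rintro _ ⟨a, ha, rfl⟩ hab z hz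
      rw [hinf] at hz
      obtain ⟨z, hz, rfl⟩ := hz
      obtain ⟨b, hb, e⟩ := h.commB a ha (fun h1 => hab ⟨a, h1, rfl⟩) z hz
      exact ⟨f b, ⟨b, hb, rfl⟩, by rw [← e]; simp only [map_mul, map_inv]⟩ }

theorem map_conj (h : IsL3 S A B q) (g : G) : IsL3 (S.map (MulAut.conj g).toMonoidHom)
    (A.map (MulAut.conj g).toMonoidHom) (B.map (MulAut.conj g).toMonoidHom) q :=
  h.map _ (fun _ _ hx => (MulAut.conj g).injective (hx.trans (map_one (MulAut.conj g)).symm))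

/-- for `a ∈ A ∖ Z`, `z ∈ Z` some involution `t ∈ B` carries `a` to `z a` -/
theorem exists_conj_mul (h : IsL3 S A B q) {a z : G} (ha : a ∈ A) (haB : a ∉ B) (hz : z ∈ A ⊓ B) :
    ∃ t ∈ B, t * a * t⁻¹ = z * a := by
  obtain ⟨b, hb, e⟩ := h.commA a ha haB z hz
  refine ⟨b, hb, ?_⟩
  have hz2 : z⁻¹ = z := eq_inv_of_sq (h.A_sq z (mem_inf.1 hz).1)
  have h1 : b * a * b⁻¹ = (a * b * a⁻¹ * b⁻¹)⁻¹ * a := by group
  rw [h1, e, hz2]

end IsL3

section

variable [Finite G] {A B : Subgroup G} {q : ℕ}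

/-- involutions (2-elements) of `N(Z)` centralise `Z` -/
theorem IsAB.comm_of_sq {S : Sylow 2 G} (h : IsAB (S : Subgroup G) A B) {t : G} (ht : t * t = 1)
    (htN : t ∈ normalizer ((A ⊓ B : Subgroup G) : Set G)) {z : G} (hz : z ∈ A ⊓ B) : t * z = z * t := by
  have hZN := h.S_le_normalizer_Z
  have hzp : IsPGroup 2 (zpowers t) := by
    rw [IsPGroup.iff_card]
    rcases eq_or_ne t 1 with rfl | ht1
    · exact ⟨0, by simp⟩
    · exact ⟨1, by rw [Nat.card_zpowers, orderOf_eq_two_of_sq ht ht1, pow_one]⟩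
  obtain ⟨n, hn, hle⟩ := exists_conj_le_in (p := 2) S.isPGroup' (sylow_not_dvd_relIndex S hZN)
    (zpowers_le.2 htN) hzp
  have h1 : n * t * n⁻¹ ∈ (S : Subgroup G) := hle ⟨t, mem_zpowers t, by simp⟩
  have h2 := h.comm_Z (conj_mem_of_mem_normalizer hn hz) h1
  calc t * z = n⁻¹ * (n * t * n⁻¹ * (n * z * n⁻¹)) * n := by group
    _ = z * t := by rw [← h2]; group

namespace IsL3

variable {S : Sylow 2 G}

/-- the conjugates of `Z` in `N(A)` intersect trivially -/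
theorem ti (h : IsL3 (S : Subgroup G) A B q) {n : G} (hn : n ∈ normalizer (A : Set G)) {z : G}
    (hz : z ∈ A ⊓ B) (hz1 : z ≠ 1) (hnz : n * z * n⁻¹ ∈ A ⊓ B) :
    n ∈ normalizer ((A ⊓ B : Subgroup G) : Set G) := by
  by_contra hcon
  set Z := A ⊓ B with hZ
  -- choose a counterexample with maximal intersection
  let Bad : G → Prop := fun m => m ∈ normalizer (A : Set G) ∧ m ∉ normalizer (Z : Set G) ∧
    Z ⊓ Z.map (MulAut.conj m).toMonoidHom ≠ ⊥
  have hbad : Bad n := by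
    refine ⟨hn, hcon, fun h0 => ?_⟩
    have h1 : n * z * n⁻¹ ∈ Z ⊓ Z.map (MulAut.conj n).toMonoidHom :=
      mem_inf.2 ⟨hnz, conj_mem_map_conj hz n⟩
    rw [h0, mem_bot] at h1
    apply hz1
    have := congrArg (fun t => n⁻¹ * t * n) h1
    simpa [mul_assoc] using this
  obtain ⟨m, ⟨hmA, hmZ, hmI⟩, hmax⟩ := (Set.toFinite {m | Bad m}).exists_maximalFor
    (fun m => Nat.card (Z ⊓ Z.map (MulAut.conj m).toMonoidHom : Subgroup G)) {m | Bad m} ⟨n, hbad⟩
  set Z' := Z.map (MulAut.conj m).toMonoidHom with hZ'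
  have hcard : Nat.card Z' = Nat.card Z := card_map_conj Z m
  -- an element `b ∈ Z' ∖ Z`
  obtain ⟨b, hb, hbZ⟩ : ∃ b ∈ Z', b ∉ Z := by
    by_contra h0
    push Not at h0
    apply hmZ
    rw [mem_normalizer_iff_map_conj]
    exact Subgroup.eq_of_le_of_card_ge h0 hcard.ge
  obtain ⟨ζ, hζ, hζ1⟩ : ∃ ζ ∈ Z ⊓ Z', ζ ≠ 1 := by
    by_contra h0
    push Not at h0
    exact hmI ((Subgroup.eq_bot_iff_forall _).2 h0)
  have hZ'A : Z' ≤ A := by
    rintro _ ⟨x, hx, rfl⟩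
    exact conj_mem_of_mem_normalizer hmA (mem_inf.1 hx).1
  have hbA := hZ'A hb
  have hbB : b ∉ B := fun h1 => hbZ (mem_inf.2 ⟨hbA, h1⟩)
  have hζZ : ζ ∈ Z := (mem_inf.1 hζ).1
  have hζZ' : ζ ∈ Z' := (mem_inf.1 hζ).2
  obtain ⟨t, ht, e⟩ := h.exists_conj_mul hbA hbB hζZ
  have htS : t ∈ (S : Subgroup G) := h.B_le ht
  have htA : t ∈ normalizer (A : Set G) := h.S_le_normalizer_A htS
  set m' := m⁻¹ * t * m with hm'
  have hm'A : m' ∈ normalizer (A : Set G) := mul_mem (mul_mem (inv_mem hmA) htA) hmA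
  -- the intersection for `m'` is larger
  have hbig : Nat.card (Z ⊓ Z' : Subgroup G) <
      Nat.card (Z ⊓ Z.map (MulAut.conj m').toMonoidHom : Subgroup G) := by
    have h1 : (Z ⊓ Z.map (MulAut.conj m').toMonoidHom).map (MulAut.conj m).toMonoidHom =
        Z' ⊓ Z'.map (MulAut.conj t).toMonoidHom := by
      rw [Subgroup.map_inf _ _ _ (MulAut.conj m).injective, map_conj_map_conj, hZ', map_conj_map_conj]
      congr 3
      rw [hm']; group
    rw [← card_map_conj (Z ⊓ Z.map (MulAut.conj m').toMonoidHom) m, h1]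
    apply Set.Finite.card_lt_card (Set.toFinite _)
    refine lt_of_le_of_ne ?_ ?_
    · intro x hx
      obtain ⟨hx1, hx2⟩ := mem_inf.1 hx
      refine mem_inf.2 ⟨hx2, ?_⟩
      rw [mem_map_conj]
      have : t⁻¹ * x * t = x := by
        rw [mul_assoc, h.comm_Z hx1 htS, inv_mul_cancel_left]
      rw [this]; exact hx2
    · intro heq
      have h2 : ζ * b ∈ Z' ⊓ Z'.map (MulAut.conj t).toMonoidHom := by
        refine mem_inf.2 ⟨mul_mem hζZ' hb, ?_⟩
        rw [← e]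
        exact conj_mem_map_conj hb t
      rw [← (SetLike.coe_injective heq : Z ⊓ Z' = Z' ⊓ Z'.map (MulAut.conj t).toMonoidHom)] at h2
      apply hbZ
      have h3 := mul_mem (inv_mem hζZ) (mem_inf.1 h2).1
      simpa using h3
  have hm'Z : m' ∈ normalizer (Z : Set G) := by
    by_contra h1
    have h2 : Bad m' := by
      refine ⟨hm'A, h1, fun h0 => ?_⟩
      rw [h0] at hbig
      simp only [Subgroup.card_bot] at hbig
      have : 0 < Nat.card (Z ⊓ Z' : Subgroup G) := Nat.card_pos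
      omega
    have h3 := hmax h2 hbig.le
    exact absurd h3 (not_le_of_gt hbig)
  have hm'2 : m' * m' = 1 := by
    have := h.B_sq t ht
    calc m' * m' = m⁻¹ * (t * t) * m := by rw [hm']; group
      _ = 1 := by rw [this]; group
  -- so `t` centralises `Z'`
  have hb0 : m⁻¹ * b * m ∈ Z := by rw [← mem_map_conj]; exact hb
  have h4 := h.toIsAB.comm_of_sq hm'2 hm'Z hb0
  have h5 : t * b = b * t := by
    calc t * b = m * (m' * (m⁻¹ * b * m)) * m⁻¹ := by rw [hm']; group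
      _ = b * t := by rw [h4, hm']; group
  apply hζ1
  rw [h5, mul_inv_cancel_right] at e
  exact (mul_eq_right.1 e.symm)

/-- the spread covers `A` -/
theorem cover (h : IsL3 (S : Subgroup G) A B q)
    (hN : ¬ normalizer (A : Set G) ≤ normalizer ((A ⊓ B : Subgroup G) : Set G)) :
    ∃ n₀ ∈ normalizer (A : Set G), n₀ ∉ normalizer ((A ⊓ B : Subgroup G) : Set G) ∧
      (∀ a ∈ A, ∃ z ∈ A ⊓ B, ∃ b ∈ (A ⊓ B).map (MulAut.conj n₀).toMonoidHom, z * b = a) ∧
      (A ⊓ B) ⊓ (A ⊓ B).map (MulAut.conj n₀).toMonoidHom = ⊥ := by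
  obtain ⟨n₀, hn₀, hn₀Z⟩ := SetLike.not_le_iff_exists.1 hN
  have hinf : (A ⊓ B) ⊓ (A ⊓ B).map (MulAut.conj n₀).toMonoidHom = ⊥ := by
    rw [Subgroup.eq_bot_iff_forall]
    intro x hx
    by_contra hx1
    obtain ⟨hxZ, y, hy, rfl⟩ := mem_inf.1 hx
    have hy1 : y ≠ 1 := by rintro rfl; exact hx1 (map_one _)
    exact hn₀Z (h.ti hn₀ hy hy1 hxZ)
  refine ⟨n₀, hn₀, hn₀Z, ?_, hinf⟩
  set Z := A ⊓ B with hZ
  set Z' := Z.map (MulAut.conj n₀).toMonoidHom with hZ'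
  have hZ'A : Z' ≤ A := by
    rintro _ ⟨x, hx, rfl⟩
    exact conj_mem_of_mem_normalizer hn₀ (mem_inf.1 hx).1
  -- the product map `Z × Z' → A` is injective between sets of the same size
  let f : Z × Z' → A := fun p => ⟨(p.1 : G) * p.2, mul_mem (mem_inf.1 p.1.2).1 (hZ'A p.2.2)⟩
  have hf : Function.Injective f := by
    rintro ⟨x, y⟩ ⟨x', y'⟩ hxy
    have h1 : (x : G) * y = x' * y' := congrArg Subtype.val hxy
    have h2 : (x' : G)⁻¹ * x = y' * (y : G)⁻¹ := by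
      calc (x' : G)⁻¹ * x = (x' : G)⁻¹ * (x * y) * (y : G)⁻¹ := by group
        _ = y' * (y : G)⁻¹ := by rw [h1]; group
    have h3 : (x' : G)⁻¹ * x ∈ Z ⊓ Z' :=
      mem_inf.2 ⟨mul_mem (inv_mem x'.2) x.2, h2 ▸ mul_mem y'.2 (inv_mem y.2)⟩
    rw [hinf, mem_bot] at h3
    have h4 : x' = x := Subtype.ext (inv_mul_eq_one.1 h3)
    have h5 : y' = y := by
      rw [h3] at h2
      exact Subtype.ext (mul_inv_eq_one.1 h2.symm)
    rw [h4, h5]
  have hcard : Nat.card (Z × Z') = Nat.card A := by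
    rw [Nat.card_prod, h.card_A, hZ', card_map_conj, h.card_Z, pow_two]
  have hbij : Function.Bijective f := (Nat.bijective_iff_injective_and_card f).2 ⟨hf, hcard⟩
  intro a ha
  obtain ⟨⟨x, y⟩, hxy⟩ := hbij.2 ⟨a, ha⟩
  exact ⟨x, x.2, y, y.2, congrArg Subtype.val hxy⟩

/-- every element of `A` is conjugate in `N(A)` to an element of `Z` -/
theorem exists_conj_mem_Z (h : IsL3 (S : Subgroup G) A B q)
    (hN : ¬ normalizer (A : Set G) ≤ normalizer ((A ⊓ B : Subgroup G) : Set G)) {a : G} (ha : a ∈ A) :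
    ∃ n ∈ normalizer (A : Set G), n * a * n⁻¹ ∈ A ⊓ B := by
  obtain ⟨n₀, hn₀, hn₀Z, hcov, hinf⟩ := h.cover hN
  by_cases haZ : a ∈ A ⊓ B
  · exact ⟨1, one_mem _, by simpa using haZ⟩
  obtain ⟨z, hz, b, hb, rfl⟩ := hcov a ha
  have hbA : b ∈ A := by
    obtain ⟨x, hx, rfl⟩ := hb
    exact conj_mem_of_mem_normalizer hn₀ (mem_inf.1 hx).1
  have hbB : b ∉ B := fun h1 => haZ (mul_mem hz (mem_inf.2 ⟨hbA, h1⟩))
  obtain ⟨t, ht, e⟩ := h.exists_conj_mul hbA hbB hz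
  have htA : t ∈ normalizer (A : Set G) := h.S_le_normalizer_A (h.B_le ht)
  refine ⟨n₀⁻¹ * t⁻¹, mul_mem (inv_mem hn₀) (inv_mem htA), ?_⟩
  rw [← e]
  have hb' : n₀⁻¹ * b * n₀ ∈ A ⊓ B := by rw [← mem_map_conj]; exact hb
  convert hb' using 1
  group

/-- `N(A)` is transitive on the nontrivial elements of `A` -/
theorem trans_A (h : IsL3 (S : Subgroup G) A B q)
    (hN : ¬ normalizer (A : Set G) ≤ normalizer ((A ⊓ B : Subgroup G) : Set G)) {a a' : G} (ha : a ∈ A)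
    (ha1 : a ≠ 1) (ha' : a' ∈ A) (ha'1 : a' ≠ 1) : ∃ n ∈ normalizer (A : Set G), n * a * n⁻¹ = a' := by
  obtain ⟨n₀, hn₀, hn₀Z, hcov, hinf⟩ := h.cover hN
  -- nontrivial elements of `Z` and of `Z'` are conjugate
  have key : ∀ z ∈ A ⊓ B, z ≠ 1 → ∀ b ∈ (A ⊓ B).map (MulAut.conj n₀).toMonoidHom, b ≠ 1 →
      ∃ n ∈ normalizer (A : Set G), n * z * n⁻¹ = b := by
    intro z hz hz1 b hb hb1
    have hzA : z ∈ A := (mem_inf.1 hz).1
    have hb' : n₀⁻¹ * b * n₀ ∈ A ⊓ B := by rw [← mem_map_conj]; exact hb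
    have hbA : b ∈ A := by
      have := conj_mem_of_mem_normalizer hn₀ (mem_inf.1 hb').1
      simpa [mul_assoc] using this
    have hbB : b ∉ B := by
      intro h1
      have : b ∈ (A ⊓ B) ⊓ (A ⊓ B).map (MulAut.conj n₀).toMonoidHom :=
        mem_inf.2 ⟨mem_inf.2 ⟨hbA, h1⟩, hb⟩
      rw [hinf, mem_bot] at this
      exact hb1 this
    obtain ⟨t, ht, e⟩ := h.exists_conj_mul hbA hbB hz
    have htA : t ∈ normalizer (A : Set G) := h.S_le_normalizer_A (h.B_le ht)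
    -- the same in the conjugate structure
    have hz' : n₀⁻¹ * z * n₀ ∈ A := by
      have := conj_mem_of_mem_normalizer (inv_mem hn₀) hzA
      simpa using this
    have hz'B : n₀⁻¹ * z * n₀ ∉ B := by
      intro h1
      have : z ∈ (A ⊓ B) ⊓ (A ⊓ B).map (MulAut.conj n₀).toMonoidHom :=
        mem_inf.2 ⟨hz, mem_map_conj.2 (mem_inf.2 ⟨hz', h1⟩)⟩
      rw [hinf, mem_bot] at this
      exact hz1 this
    obtain ⟨t', ht', e'⟩ := h.exists_conj_mul hz' hz'B hb'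
    have ht'A : t' ∈ normalizer (A : Set G) := h.S_le_normalizer_A (h.B_le ht')
    refine ⟨t⁻¹ * (n₀ * t' * n₀⁻¹), mul_mem (inv_mem htA) (mul_mem (mul_mem hn₀ ht'A) (inv_mem hn₀)), ?_⟩
    have e1 : (n₀ * t' * n₀⁻¹) * z * (n₀ * t' * n₀⁻¹)⁻¹ = b * z := by
      calc (n₀ * t' * n₀⁻¹) * z * (n₀ * t' * n₀⁻¹)⁻¹ = n₀ * (t' * (n₀⁻¹ * z * n₀) * t'⁻¹) * n₀⁻¹ := by group
        _ = b * z := by rw [e']; group
    have e2 : t⁻¹ * (z * b) * t = b := by rw [← e]; group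
    calc t⁻¹ * (n₀ * t' * n₀⁻¹) * z * (t⁻¹ * (n₀ * t' * n₀⁻¹))⁻¹
        = t⁻¹ * ((n₀ * t' * n₀⁻¹) * z * (n₀ * t' * n₀⁻¹)⁻¹) * t := by group
      _ = t⁻¹ * (z * b) * t := by rw [e1, h.A_comm b hbA z hzA]
      _ = b := e2
  -- an element of `Z'`
  obtain ⟨b, hb, hb1⟩ : ∃ b ∈ (A ⊓ B).map (MulAut.conj n₀).toMonoidHom, b ≠ 1 := by
    obtain ⟨z, hz, hz1⟩ : ∃ z ∈ A ⊓ B, z ≠ 1 := by
      by_contra h0
      push Not at h0
      exact h.Z_ne_bot ((Subgroup.eq_bot_iff_forall _).2 h0)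
    refine ⟨_, conj_mem_map_conj hz n₀, fun h1 => hz1 ?_⟩
    have := congrArg (fun t => n₀⁻¹ * t * n₀) h1
    simpa [mul_assoc] using this
  have toB : ∀ a ∈ A, a ≠ 1 → ∃ n ∈ normalizer (A : Set G), n * a * n⁻¹ = b := by
    intro a ha ha1
    obtain ⟨n, hn, hnZ⟩ := h.exists_conj_mem_Z hN ha
    have h1 : n * a * n⁻¹ ≠ 1 := by
      intro h1
      apply ha1
      have := congrArg (fun t => n⁻¹ * t * n) h1
      simpa [mul_assoc] using this
    obtain ⟨m, hm, e⟩ := key _ hnZ h1 b hb hb1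
    exact ⟨m * n, mul_mem hm hn, by rw [← e]; group⟩
  obtain ⟨n, hn, e⟩ := toB a ha ha1
  obtain ⟨n', hn', e'⟩ := toB a' ha' ha'1
  refine ⟨n'⁻¹ * n, mul_mem (inv_mem hn') hn, ?_⟩
  calc n'⁻¹ * n * a * (n'⁻¹ * n)⁻¹ = n'⁻¹ * (n * a * n⁻¹) * n' := by group
    _ = n'⁻¹ * (n' * a' * n'⁻¹) * n' := by rw [e, e']
    _ = a' := by group

theorem one_lt (h : IsL3 (S : Subgroup G) A B q) : 1 < q := by
  rw [← h.card_Z]
  have : Nontrivial (A ⊓ B : Subgroup G) := (Subgroup.nontrivial_iff_ne_bot _).2 h.Z_ne_bot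
  exact Finite.one_lt_card

/-- the number of members of the spread -/
theorem relIndex_eq (h : IsL3 (S : Subgroup G) A B q)
    (hN : ¬ normalizer (A : Set G) ≤ normalizer ((A ⊓ B : Subgroup G) : Set G)) :
    (normalizer ((A ⊓ B : Subgroup G) : Set G)).relIndex (normalizer (A : Set G)) = q + 1 := by
  classical
  set N := normalizer (A : Set G) with hNdef
  set M := normalizer ((A ⊓ B : Subgroup G) : Set G) with hM
  let Z1 := {z : G // z ∈ A ⊓ B ∧ z ≠ 1}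
  let A1 := {a : G // a ∈ A ∧ a ≠ 1}
  let Q := N ⧸ M.subgroupOf N
  let f : Q × Z1 → A1 := fun p => ⟨((p.1.out : N) : G) * p.2 * ((p.1.out : N) : G)⁻¹,
    conj_mem_of_mem_normalizer p.1.out.2 (mem_inf.1 p.2.2.1).1, by
      intro h1
      apply p.2.2.2
      have := congrArg (fun t => ((p.1.out : N) : G)⁻¹ * t * ((p.1.out : N) : G)) h1
      simpa [mul_assoc] using this⟩
  have hf : Function.Bijective f := by
    constructor
    · rintro ⟨c, z⟩ ⟨c', z'⟩ hcc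
      have h1 : ((c.out : N) : G) * z * ((c.out : N) : G)⁻¹ = ((c'.out : N) : G) * z' * ((c'.out : N) : G)⁻¹ :=
        congrArg Subtype.val hcc
      have h2 : (((c'.out : N) : G)⁻¹ * (c.out : N)) * z * (((c'.out : N) : G)⁻¹ * (c.out : N))⁻¹ = z' := by
        calc (((c'.out : N) : G)⁻¹ * (c.out : N)) * z * (((c'.out : N) : G)⁻¹ * (c.out : N))⁻¹
            = ((c'.out : N) : G)⁻¹ * (((c.out : N) : G) * z * ((c.out : N) : G)⁻¹) * (c'.out : N) := by group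
          _ = z' := by rw [h1]; group
      have h3 : ((c'.out : N) : G)⁻¹ * (c.out : N) ∈ M :=
        h.ti (mul_mem (inv_mem c'.out.2) c.out.2) z.2.1 z.2.2 (by rw [h2]; exact z'.2.1)
      have h4 : c' = c := by
        rw [← Quotient.out_eq' c', ← Quotient.out_eq' c]
        exact QuotientGroup.eq.2 (by rw [mem_subgroupOf]; simpa using h3)
      subst h4
      have h5 : (z : G) = z' := by rw [← h2]; group
      rw [Subtype.ext h5]
    · rintro ⟨a, ha, ha1⟩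
      obtain ⟨n, hn, hnZ⟩ := h.exists_conj_mem_Z hN ha
      let c : Q := QuotientGroup.mk (⟨n⁻¹, inv_mem hn⟩ : N)
      have h1 : ((c.out : N) : G)⁻¹ * n⁻¹ ∈ M := by
        have h2 : (c.out : N)⁻¹ * ⟨n⁻¹, inv_mem hn⟩ ∈ M.subgroupOf N :=
          QuotientGroup.eq.1 (Quotient.out_eq' c)
        rw [mem_subgroupOf] at h2
        simpa using h2
      have h3 := conj_mem_of_mem_normalizer h1 hnZ
      have h4 : ((c.out : N) : G)⁻¹ * n⁻¹ * (n * a * n⁻¹) * (((c.out : N) : G)⁻¹ * n⁻¹)⁻¹ =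
          ((c.out : N) : G)⁻¹ * a * (c.out : N) := by group
      rw [h4] at h3
      refine ⟨(c, ⟨((c.out : N) : G)⁻¹ * a * (c.out : N), h3, fun h5 => ha1 ?_⟩), ?_⟩
      · have := congrArg (fun t => ((c.out : N) : G) * t * ((c.out : N) : G)⁻¹) h5
        simpa [mul_assoc] using this
      · apply Subtype.ext
        show ((c.out : N) : G) * (((c.out : N) : G)⁻¹ * a * (c.out : N)) * ((c.out : N) : G)⁻¹ = a
        group
  have hcard := Nat.card_congr (Equiv.ofBijective f hf)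
  rw [Nat.card_prod] at hcard
  have hQ : Nat.card Q = M.relIndex N := rfl
  have card1 : ∀ X : Subgroup G, Nat.card {x : G // x ∈ X ∧ x ≠ 1} + 1 = Nat.card X := by
    intro X
    have e : {x : G // x ∈ X ∧ x ≠ 1} ≃ {x : X // x ≠ 1} :=
      ⟨fun x => ⟨⟨x.1, x.2.1⟩, fun h1 => x.2.2 (congrArg Subtype.val h1)⟩,
       fun x => ⟨x.1.1, x.1.2, fun h1 => x.2 (Subtype.ext h1)⟩, fun x => rfl, fun x => rfl⟩
    rw [Nat.card_congr e]
    have h1 := Nat.card_congr (Equiv.sumCompl (fun x : X => x = 1))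
    rw [Nat.card_sum] at h1
    have h2 : Nat.card {x : X // x = 1} = 1 := by simp
    rw [h2] at h1
    rw [← h1, add_comm]
  have hZ1 : Nat.card Z1 + 1 = q := by rw [← h.card_Z]; exact card1 _
  have hA1 : Nat.card A1 + 1 = q ^ 2 := by rw [← h.card_A]; exact card1 _
  rw [hQ] at hcard
  have hq := h.one_lt
  obtain ⟨r, rfl⟩ : ∃ r, q = r + 2 := ⟨q - 2, by omega⟩
  have h1 : Nat.card Z1 = r + 1 := by omega
  rw [h1] at hcard
  have h2 : Nat.card A1 = (r + 3) * (r + 1) := by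
    have : (r + 2) ^ 2 = (r + 3) * (r + 1) + 1 := by ring
    omega
  rw [h2] at hcard
  exact Nat.eq_of_mul_eq_mul_right (Nat.succ_pos r) hcard

end IsL3

end

end Cfsg.Agent.TypeL3
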