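import Mathlib
import Cfsg.Agent.TypeL3.Spread
import Cfsg.Agent.TypeL3.NoComp

/-!
# Centralisers of involutions

`G` simple with Sylow 2-subgroup `S = AB` of type `L₃(q)`, `q ≥ 4`: `C_G(z) ≤ N_G(S)` for `z ∈ Z`, `z ≠ 1`.
-/

set_option autoImplicit false

namespace Cfsg.Agent.TypeL3

open Subgroup Cfsg.Agent.Lib.GoldschmidtFusion
open scoped commutatorElement

universe u

/-- the statement of the dichotomy theorem S1296 in universe `u` -/
def H1296 : Prop := ∀ (X : Type u) [Group X] [Finite X], Even (Nat.card X) →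
  (∀ N : Subgroup X, N.Normal → N.index ≠ 2) → Cfsg.oddCore X = ⊥ →
    Cfsg.PRankLE 2 2 X ∨ Cfsg.IsComponentType X ∨ Cfsg.IsCharacteristicTwoType X

section general

variable {H : Type u} [Group H] [Finite H]

/-- a strongly closed elementary abelian subgroup lies in `O_2(H)` if `H` has characteristic 2 -/
theorem le_pCore_of_closed (S : Sylow 2 H) {A : Subgroup H} (hA : Cfsg.IsStronglyClosed A (S : Subgroup H))
    (hAc : ∀ x ∈ A, ∀ y ∈ A, x * y = y * x) (hA2 : ∀ x ∈ A, x * x = 1)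
    (hchar : Cfsg.IsOfCharacteristicTwo H) : A ≤ Cfsg.pCore 2 H := by
  set O := Cfsg.pCore 2 H with hO
  have hOn : O.Normal := Cfsg.Agent.Lib.Cores.pCore_normal 2
  have hOp : IsPGroup 2 O := Cfsg.Agent.Lib.Cores.pCore_isPGroup 2
  have hOS : O ≤ (S : Subgroup H) := hOp.le_sylow_of_normal S
  set A0 := A ⊓ O with hA0
  have hA0n : ∀ g : H, g ∈ normalizer (A0 : Set H) := by
    intro g
    rw [mem_normalizer_iff_map_conj]
    apply Subgroup.eq_of_le_of_card_ge _ (by rw [card_map_conj])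
    rintro _ ⟨x, hx, rfl⟩
    obtain ⟨hxA, hxO⟩ := mem_inf.1 hx
    have h1 : g * x * g⁻¹ ∈ O := hOn.conj_mem x hxO g
    exact mem_inf.2 ⟨hA.2 x hxA g (hOS h1), h1⟩
  have hOn' : ∀ g : H, g ∈ normalizer (O : Set H) := by
    intro g
    rw [Subgroup.normalizer_eq_top_iff.2 hOn]
    exact mem_top g
  set W := IsAB.chainStab A0 O with hW
  have hAW : A ≤ W := by
    intro a ha
    refine ⟨hOn' a, fun z hz => hAc a ha z (mem_inf.1 hz).1, fun x hx => ?_⟩
    have h1 : a * x * a⁻¹ * x⁻¹ ∈ O := mul_mem (hOn.conj_mem x hx a) (inv_mem hx)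
    refine mem_inf.2 ⟨?_, h1⟩
    have h2 : x * a⁻¹ * x⁻¹ ∈ A := by
      apply hA.2 _ (inv_mem ha)
      exact mul_mem (mul_mem (hOS hx) (inv_mem (hA.1 ha))) (inv_mem (hOS hx))
    have h3 := mul_mem ha h2
    convert h3 using 1
    group
  have hWn : W.Normal := ⟨fun r hr g => conj_mem_chainStab (hA0n g) (hOn' g) hr⟩
  have hWp : IsPGroup 2 W := by
    rintro ⟨r, hr⟩
    obtain ⟨hr1, hr2, hr3⟩ := hr
    have hsq : r * r ∈ centralizer (O : Set H) := by
      rw [mem_centralizer_iff]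
      intro x hx
      set z := r * x * r⁻¹ * x⁻¹ with hz
      have hzA : z ∈ A0 := hr3 x hx
      have e1 : r * x * r⁻¹ = z * x := by rw [hz]; group
      have hzz : z * z = 1 := hA2 z (mem_inf.1 hzA).1
      have e2 : r * r * x * (r * r)⁻¹ = x := by
        calc r * r * x * (r * r)⁻¹ = r * (r * x * r⁻¹) * r⁻¹ := by group
          _ = (r * z) * x * r⁻¹ := by rw [e1]; group
          _ = z * (r * x * r⁻¹) := by rw [hr2 z hzA]; group
          _ = z * z * x := by rw [e1]; group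
          _ = x := by rw [hzz, one_mul]
      calc x * (r * r) = (r * r * x * (r * r)⁻¹) * (r * r) := by rw [e2]
        _ = r * r * x := by group
    have hsqO : r * r ∈ O := hchar hsq
    obtain ⟨k, hk⟩ := hOp ⟨_, hsqO⟩
    refine ⟨k + 1, Subtype.ext ?_⟩
    have hk' : (r * r) ^ 2 ^ k = 1 := congrArg Subtype.val hk
    show r ^ 2 ^ (k + 1) = 1
    rw [pow_succ', pow_mul, pow_two, hk']
  exact hAW.trans (Cfsg.Agent.Lib.Cores.le_pCore hWn hWp)

/-- normalisers of 2-subgroups modulo an odd normal subgroup -/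
theorem exists_normalizer_lift {O A : Subgroup H} [hO : O.Normal] (hOodd : (Nat.card O).Coprime 2)
    (hA : IsPGroup 2 A) {g : H}
    (hg : QuotientGroup.mk' O g ∈ normalizer ((A.map (QuotientGroup.mk' O) : Subgroup (H ⧸ O)) : Set (H ⧸ O))) :
    ∃ o ∈ O, o * g ∈ normalizer (A : Set H) := by
  have hmem : ∀ x, x ∈ A ⊔ O ↔ ∃ a ∈ A, ∃ b ∈ O, x = a * b := by
    intro x
    apply mem_sup_of_le_normalizer
    rw [Subgroup.normalizer_eq_top_iff.2 hO]
    exact le_top
  -- `A` is Sylow in `A O`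
  have hdvd : A.relIndex (A ⊔ O) ∣ Nat.card O := by
    have h1 := Cfsg.Agent.Lib.Cores.card_sup_dvd O A hO
    have h2 : Nat.card A * A.relIndex (A ⊔ O) = Nat.card (A ⊔ O : Subgroup H) := by
      rw [← relIndex_bot_left, ← relIndex_bot_left]
      exact relIndex_mul_relIndex ⊥ A (A ⊔ O) bot_le le_sup_left
    rw [sup_comm, ← h2, mul_comm (Nat.card O)] at h1
    exact Nat.dvd_of_mul_dvd_mul_left Nat.card_pos h1
  have hi : ¬ 2 ∣ A.relIndex (A ⊔ O) := by
    intro hd
    have h1 := hd.trans hdvd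
    have h2 : Nat.gcd (Nat.card O) 2 = 2 := Nat.gcd_eq_right h1
    rw [Nat.Coprime] at hOodd
    omega
  have hle : A.map (MulAut.conj g).toMonoidHom ≤ A ⊔ O := by
    rintro _ ⟨a, ha, rfl⟩
    have h1 := conj_mem_of_mem_normalizer hg (⟨a, ha, rfl⟩ : QuotientGroup.mk' O a ∈ A.map (QuotientGroup.mk' O))
    rw [← map_inv, ← map_mul, ← map_mul] at h1
    obtain ⟨b, hb, e⟩ := h1
    have h2 : b⁻¹ * (g * a * g⁻¹) ∈ O := QuotientGroup.eq.1 e
    exact (hmem _).2 ⟨b, hb, b⁻¹ * (g * a * g⁻¹), h2, by simp⟩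
  obtain ⟨r, hr, hrle⟩ := exists_conj_le_in (p := 2) hA hi hle (hA.map _)
  rw [map_conj_map_conj] at hrle
  obtain ⟨a, ha, o, ho, rfl⟩ := (hmem r).1 hr
  refine ⟨o, ho, ?_⟩
  have h1 : a * o * g ∈ normalizer (A : Set H) :=
    mem_normalizer_iff_map_conj.2 (map_conj_le_of_le_normalizer hrle)
  have := mul_mem (inv_mem (le_normalizer ha)) h1
  simpa [mul_assoc] using this

end general

variable {G : Type u} [Group G] [Finite G] {A B : Subgroup G} {q : ℕ}

namespace IsL3

variable {S : Sylow 2 G}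

omit [Finite G] in
theorem coe_mem_normalizer_subgroupOf {C Q : Subgroup G} (hQ : Q ≤ C) {x : C} :
    x ∈ normalizer ((Q.subgroupOf C : Subgroup C) : Set C) ↔ (x : G) ∈ normalizer (Q : Set G) := by
  rw [← coe_mem_normalizer_map, Subgroup.map_subgroupOf_eq_of_le hQ]

omit [Finite G] in
theorem le_centralizer (h : IsL3 (S : Subgroup G) A B q) {z : G} (hz : z ∈ A ⊓ B) :
    (S : Subgroup G) ≤ centralizer {z} := by
  intro s hs
  rw [mem_centralizer_singleton_iff]
  exact (h.comm_Z hz hs).symm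

/-- in `C_G(z)` the subgroup `Z` is normalised by `N(A)` -/
theorem normalizer_le_in_centralizer (h : IsL3 (S : Subgroup G) A B q) {z : G} (hz : z ∈ A ⊓ B) (hz1 : z ≠ 1)
    {x : centralizer {z}}
    (hx : x ∈ normalizer ((A.subgroupOf (centralizer {z}) : Subgroup (centralizer {z})) : Set (centralizer {z}))) :
    x ∈ normalizer (((A.subgroupOf (centralizer {z}) ⊓ B.subgroupOf (centralizer {z})) :
      Subgroup (centralizer {z})) : Set (centralizer {z})) := by
  have hS := h.le_centralizer hz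
  rw [coe_mem_normalizer_subgroupOf (h.A_le.trans hS)] at hx
  have e : A.subgroupOf (centralizer {z}) ⊓ B.subgroupOf (centralizer {z}) =
      (A ⊓ B).subgroupOf (centralizer {z}) := rfl
  rw [e, coe_mem_normalizer_subgroupOf (h.Z_le.trans hS)]
  apply h.ti hx hz hz1
  have := mem_centralizer_singleton_iff.1 x.2
  rw [this, mul_inv_cancel_right]
  exact hz

/-- `C_G(z)/O(C_G(z))` has no component -/
theorem not_hasComponent (h1169 : H1169.{u}) (h1171 : H1171.{u}) (h : IsL3 (S : Subgroup G) A B q) {z : G}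
    (hz : z ∈ A ⊓ B) (hz1 : z ≠ 1) :
    ¬ Cfsg.HasComponent (centralizer ({z} : Set G) ⧸ Cfsg.oddCore (centralizer ({z} : Set G))) := by
  set C := centralizer ({z} : Set G) with hC
  have hSC : (S : Subgroup G) ≤ C := h.le_centralizer hz
  set O := Cfsg.oddCore C with hO
  have hOn : O.Normal := Cfsg.Agent.Lib.Cores.pPrimeCore_normal 2
  have hOodd : (Nat.card O).Coprime 2 := Cfsg.Agent.Lib.Cores.pPrimeCore_coprime 2
  let SC : Sylow 2 C := S.subtype hSC
  have hSCc : (SC : Subgroup C) = (S : Subgroup G).subgroupOf C := rfl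
  let SX := SC.mapSurjective (QuotientGroup.mk'_surjective O)
  have hAB : IsAB (SC : Subgroup C) (A.subgroupOf C) (B.subgroupOf C) := h.toIsAB.subgroupOf hSC
  -- injectivity on `S`
  have hinj : ∀ x ∈ (SC : Subgroup C), QuotientGroup.mk' O x = 1 → x = 1 := by
    intro x hx hx1
    have hxO : x ∈ O := (QuotientGroup.eq_one_iff _).1 hx1
    have h1 : orderOf x ∣ Nat.card O := by
      have := orderOf_dvd_natCard (⟨x, hxO⟩ : O)
      rwa [← Subgroup.orderOf_coe] at this
    obtain ⟨k, hk⟩ := SC.isPGroup' ⟨x, hx⟩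
    have h2 : orderOf x ∣ 2 ^ k := orderOf_dvd_of_pow_eq_one (congrArg Subtype.val hk)
    have h3 : orderOf x ∣ Nat.gcd (Nat.card O) (2 ^ k) := Nat.dvd_gcd h1 h2
    rw [Nat.Coprime.pow_right k hOodd] at h3
    exact orderOf_eq_one_iff.1 (Nat.dvd_one.1 h3)
  have hABX : IsAB (SX : Subgroup (C ⧸ O)) ((A.subgroupOf C).map (QuotientGroup.mk' O))
      ((B.subgroupOf C).map (QuotientGroup.mk' O)) := hAB.map _ hinj
  have hcore : Cfsg.oddCore (C ⧸ O) = ⊥ := Cfsg.Agent.Lib.Cores.pPrimeCore_quotient_pPrimeCore 2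
  have hinf : (A.subgroupOf C).map (QuotientGroup.mk' O) ⊓ (B.subgroupOf C).map (QuotientGroup.mk' O) =
      (A.subgroupOf C ⊓ B.subgroupOf C).map (QuotientGroup.mk' O) := IsAB.map_inf_of_ker hAB.A_le hAB.B_le hinj
  have step : ∀ (A B : Subgroup C), IsAB (SC : Subgroup C) A B →
      (∀ x ∈ normalizer (A : Set C), x ∈ normalizer ((A ⊓ B : Subgroup C) : Set C)) →
      normalizer ((A.map (QuotientGroup.mk' O) : Subgroup (C ⧸ O)) : Set (C ⧸ O)) ≤
        normalizer (((A ⊓ B).map (QuotientGroup.mk' O) : Subgroup (C ⧸ O)) : Set (C ⧸ O)) := by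
    intro A B hAB hN x hx
    obtain ⟨g, rfl⟩ := QuotientGroup.mk'_surjective O x
    have hAp : IsPGroup 2 A := SC.isPGroup'.to_le hAB.A_le
    obtain ⟨o, ho, hog⟩ := exists_normalizer_lift hOodd hAp hx
    have h1 := hN _ hog
    have e : QuotientGroup.mk' O g = QuotientGroup.mk' O (o * g) := by
      rw [map_mul, (QuotientGroup.eq_one_iff o).2 ho |> (fun h => (h : QuotientGroup.mk' O o = 1)), one_mul]
    rw [e]
    exact Subgroup.le_normalizer_map (QuotientGroup.mk' O) ⟨_, h1, rfl⟩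
  apply TypeL3.not_hasComponent h1169 h1171 hABX hcore
  · rw [hinf]
    exact step _ _ hAB (fun x hx => h.normalizer_le_in_centralizer hz hz1 hx)
  · rw [hinf, inf_comm (A.subgroupOf C)]
    exact step _ _ hAB.symm (fun x hx => h.symm.normalizer_le_in_centralizer (inf_comm A B ▸ hz) hz1 hx)

/-- every involution is conjugate to an element of `Z` -/
theorem exists_conj_Z (h : IsL3 (S : Subgroup G) A B q)
    (hNA : ¬ normalizer (A : Set G) ≤ normalizer ((A ⊓ B : Subgroup G) : Set G))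
    (hNB : ¬ normalizer (B : Set G) ≤ normalizer ((A ⊓ B : Subgroup G) : Set G)) {t : G} (ht : t * t = 1) :
    ∃ k : G, k * t * k⁻¹ ∈ A ⊓ B := by
  have hzp : IsPGroup 2 (zpowers t) := by
    rw [IsPGroup.iff_card]
    rcases eq_or_ne t 1 with rfl | ht1
    · exact ⟨0, by simp⟩
    · exact ⟨1, by rw [Nat.card_zpowers, orderOf_eq_two_of_sq ht ht1, pow_one]⟩
  obtain ⟨g, -, hle⟩ := exists_conj_le_in (p := 2) (N := ⊤) S.isPGroup'
    (sylow_not_dvd_relIndex S le_top) (le_top : zpowers t ≤ ⊤) hzp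
  have h1 : g * t * g⁻¹ ∈ (S : Subgroup G) := hle ⟨t, mem_zpowers t, by simp⟩
  have h2 : g * t * g⁻¹ * (g * t * g⁻¹) = 1 := by
    calc g * t * g⁻¹ * (g * t * g⁻¹) = g * (t * t) * g⁻¹ := by group
      _ = 1 := by rw [ht]; group
  rcases h.inv _ h1 h2 with h3 | h3
  · obtain ⟨n, -, hn⟩ := h.exists_conj_mem_Z hNA h3
    refine ⟨n * g, ?_⟩
    convert hn using 1
    group
  · obtain ⟨n, -, hn⟩ := h.symm.exists_conj_mem_Z (by rw [inf_comm]; exact hNB) h3
    refine ⟨n * g, ?_⟩
    rw [inf_comm] at hn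
    convert hn using 1
    group

omit [Finite G] in
theorem four_lt_card (h : IsL3 (S : Subgroup G) A B q) (hq : 4 ≤ q) : 4 < Nat.card A := by
  rw [h.card_A]
  nlinarith

/-- `G` is of characteristic 2 type -/
theorem characteristicTwoType (h1169 : H1169.{u}) (h1171 : H1171.{u}) (h1296 : H1296.{u}) [IsSimpleGroup G]
    (h : IsL3 (S : Subgroup G) A B q) (hq : 4 ≤ q) : Cfsg.IsCharacteristicTwoType G := by
  have hNA := h.not_normalizer_le h1169
  have hNB := h.not_normalizer_le' h1169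
  have hcardA := h.four_lt_card hq
  have hle : Nat.card A ≤ Nat.card G := Nat.card_le_card_of_injective _ A.subtype_injective
  obtain ⟨z, hz, hz1⟩ : ∃ z ∈ A ⊓ B, z ≠ 1 := by
    by_contra h0
    push Not at h0
    exact h.Z_ne_bot ((Subgroup.eq_bot_iff_forall _).2 h0)
  have heven : Even (Nat.card G) := by
    have h1 := orderOf_dvd_natCard z
    rw [orderOf_eq_two_of_sq (h.A_sq z (mem_inf.1 hz).1) hz1] at h1
    exact (even_iff_two_dvd).2 h1
  have hS : (S : Subgroup G) ≠ ⊥ := by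
    intro h0
    have := h.A_le (mem_inf.1 hz).1
    rw [h0, mem_bot] at this
    exact hz1 this
  have hidx : ∀ N : Subgroup G, N.Normal → N.index ≠ 2 := by
    intro N hN hind
    rcases hN.eq_bot_or_eq_top with h2 | h2
    · rw [h2, Subgroup.index_bot] at hind
      omega
    · rw [h2, Subgroup.index_top] at hind
      omega
  rcases h1296 G heven hidx (oddCore_eq_bot_of_simple S hS) with h1 | h1 | h1
  · exfalso
    have hc : IsMulCommutative A := ⟨⟨fun x y => Subtype.ext (h.A_comm x x.2 y y.2)⟩⟩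
    have := h1 A hc (fun a ha => by rw [pow_two]; exact h.A_sq a ha)
    omega
  · exfalso
    obtain ⟨t, ht, hcomp⟩ := h1
    have ht2 : t * t = 1 := by rw [← pow_two, ← ht]; exact pow_orderOf_eq_one t
    obtain ⟨k, hk⟩ := h.exists_conj_Z hNA hNB ht2
    have h2 := h.map_conj k⁻¹
    have e : (S : Subgroup G).map (MulAut.conj k⁻¹).toMonoidHom = ((k⁻¹ • S : Sylow 2 G) : Subgroup G) := rfl
    rw [e] at h2
    have ht1 : t ≠ 1 := by
      rintro rfl
      rw [orderOf_one] at ht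
      omega
    refine h2.not_hasComponent h1169 h1171 ?_ ht1 hcomp
    rw [← Subgroup.map_inf _ _ _ (MulAut.conj k⁻¹).injective, mem_map_conj, inv_inv]
    exact hk
  · exact h1

omit [Finite G] in
theorem centralizer_eq_normalizer_zpowers {z : G} (hz : z * z = 1) :
    normalizer ((zpowers z : Subgroup G) : Set G) = centralizer {z} := by
  have hmem : ∀ x ∈ zpowers z, x = 1 ∨ x = z := by
    intro x hx
    obtain ⟨n, rfl⟩ := mem_zpowers_iff.1 hx
    rcases Int.even_or_odd n with ⟨m, rfl⟩ | ⟨m, rfl⟩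
    · left
      rw [zpow_add, ← (Commute.refl z).mul_zpow, hz, one_zpow]
    · right
      rw [zpow_add, zpow_one, two_mul, zpow_add, ← (Commute.refl z).mul_zpow, hz, one_zpow, one_mul]
  apply le_antisymm
  · intro g hg
    rw [mem_centralizer_singleton_iff]
    by_cases hz1 : z = 1
    · rw [hz1]; simp
    have h1 := conj_mem_of_mem_normalizer hg (mem_zpowers z)
    rcases hmem _ h1 with h2 | h2
    · exfalso
      apply hz1
      have := congrArg (fun t => g⁻¹ * t * g) h2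
      simpa [mul_assoc] using this
    · nth_rewrite 2 [← h2]
      group
  · intro g hg
    have hg' := mem_centralizer_singleton_iff.1 hg
    apply centralizer_le_normalizer
    rw [mem_centralizer_iff]
    intro x hx
    rcases hmem x hx with rfl | rfl
    · simp
    · exact hg'.symm

/-- `C_G(z) ≤ N_G(S)` -/
theorem centralizer_le (h1169 : H1169.{u}) (h1171 : H1171.{u}) (h1296 : H1296.{u}) [IsSimpleGroup G]
    (h : IsL3 (S : Subgroup G) A B q) (hq : 4 ≤ q) {z : G} (hz : z ∈ A ⊓ B) (hz1 : z ≠ 1) :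
    centralizer {z} ≤ normalizer ((S : Subgroup G) : Set G) := by
  have hz2 := h.A_sq z (mem_inf.1 hz).1
  have hchar := (h.characteristicTwoType h1169 h1171 h1296 hq).2 (zpowers z) (by
    rw [IsPGroup.iff_card]
    exact ⟨1, by rw [Nat.card_zpowers, orderOf_eq_two_of_sq hz2 hz1, pow_one]⟩)
    (by rw [Ne, zpowers_eq_bot]; exact hz1)
  rw [centralizer_eq_normalizer_zpowers hz2] at hchar
  set C := centralizer ({z} : Set G) with hC
  have hSC : (S : Subgroup G) ≤ C := h.le_centralizer hz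
  let SC : Sylow 2 C := S.subtype hSC
  have hAB : IsAB (SC : Subgroup C) (A.subgroupOf C) (B.subgroupOf C) := h.toIsAB.subgroupOf hSC
  have hcA : Cfsg.IsStronglyClosed (A.subgroupOf C) (SC : Subgroup C) := by
    apply hAB.stronglyClosed_A
    intro x hx
    rw [inf_comm]
    exact h.symm.normalizer_le_in_centralizer (inf_comm A B ▸ hz) hz1 hx
  have hcB : Cfsg.IsStronglyClosed (B.subgroupOf C) (SC : Subgroup C) := by
    apply hAB.stronglyClosed_B
    intro x hx
    exact h.normalizer_le_in_centralizer hz hz1 hx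
  have hOA := le_pCore_of_closed SC hcA hAB.A_comm hAB.A_sq hchar
  have hOB := le_pCore_of_closed SC hcB hAB.B_comm hAB.B_sq hchar
  have hn : (Cfsg.pCore 2 C).Normal := Cfsg.Agent.Lib.Cores.pCore_normal 2
  have hle : Cfsg.pCore 2 C ≤ (SC : Subgroup C) := Cfsg.Agent.Lib.Cores.pCore_le_sylow SC
  intro g hg
  rw [mem_normalizer_iff_map_conj]
  apply Subgroup.eq_of_le_of_card_ge _ (by rw [card_map_conj])
  rintro _ ⟨s, hs, rfl⟩
  obtain ⟨a, ha, b, hb, e⟩ := hAB.prod ⟨s, hSC hs⟩ (by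
    show (⟨s, hSC hs⟩ : C) ∈ (S : Subgroup G).subgroupOf C
    rw [mem_subgroupOf]; exact hs)
  have h1 : (⟨s, hSC hs⟩ : C) ∈ Cfsg.pCore 2 C := by
    rw [← e]
    exact mul_mem (hOA ha) (hOB hb)
  have h2 := hle (hn.conj_mem _ h1 ⟨g, hg⟩)
  have h3 : (⟨g, hg⟩ * ⟨s, hSC hs⟩ * (⟨g, hg⟩ : C)⁻¹ : C) ∈ (S : Subgroup G).subgroupOf C := h2
  rw [mem_subgroupOf] at h3
  exact h3

/-- `N(A) ∩ N(Z) ≤ N(S)` -/
theorem mem_normalizer_S (h1169 : H1169.{u}) (h1171 : H1171.{u}) (h1296 : H1296.{u}) [IsSimpleGroup G]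
    (h : IsL3 (S : Subgroup G) A B q) (hq : 4 ≤ q) {g z : G} (hz : z ∈ A ⊓ B) (hz1 : z ≠ 1)
    (hgz : g * z * g⁻¹ ∈ A ⊓ B) : g ∈ normalizer ((S : Subgroup G) : Set G) := by
  have h0 : g * z * g⁻¹ ≠ 1 := by
    intro h1
    apply hz1
    have := congrArg (fun t => g⁻¹ * t * g) h1
    simpa [mul_assoc] using this
  have hle : (S : Subgroup G).map (MulAut.conj g).toMonoidHom ≤ normalizer ((S : Subgroup G) : Set G) := by
    refine le_trans ?_ (h.centralizer_le h1169 h1171 h1296 hq hgz h0)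
    rintro _ ⟨s, hs, rfl⟩
    rw [mem_centralizer_singleton_iff]
    show g * s * g⁻¹ * (g * z * g⁻¹) = g * z * g⁻¹ * (g * s * g⁻¹)
    have := h.comm_Z hz hs
    calc g * s * g⁻¹ * (g * z * g⁻¹) = g * (s * z) * g⁻¹ := by group
      _ = g * z * g⁻¹ * (g * s * g⁻¹) := by rw [← this]; group
  have hp : IsPGroup 2 ((S : Subgroup G).map (MulAut.conj g).toMonoidHom : Subgroup G) := S.isPGroup'.map _
  have h1 : (S : Subgroup G).map (MulAut.conj g).toMonoidHom ⊓ normalizer ((S : Subgroup G) : Set G) =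
    (S : Subgroup G).map (MulAut.conj g).toMonoidHom ⊓ (S : Subgroup G) := hp.inf_normalizer_sylow S
  rw [inf_eq_left.2 hle] at h1
  rw [mem_normalizer_iff_map_conj]
  exact Subgroup.eq_of_le_of_card_ge (inf_eq_left.1 h1.symm) (by rw [card_map_conj])

end IsL3

end Cfsg.Agent.TypeL3
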