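import Mathlib
import Cfsg.Agent.TypeL3.CharTwo
import Cfsg.Agent.TypeL3.Local

/-!
# The local data of a simple group of type `L₃(q)`
-/

set_option autoImplicit false

namespace Cfsg.Agent.TypeL3

open Subgroup Cfsg.Agent.Lib.GoldschmidtFusion Cfsg.Agent.TypeL3.Local

universe u

variable {G : Type u} [Group G] [Finite G] {A B : Subgroup G} {q : ℕ}

namespace IsL3

variable {S : Sylow 2 G}

omit [Finite G] in
theorem sup_eq (h : IsAB (S : Subgroup G) A B) : (S : Subgroup G) = A ⊔ B := by
  apply le_antisymm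
  · intro s hs
    obtain ⟨a, ha, b, hb, rfl⟩ := h.prod s hs
    exact mul_mem (mem_sup_left ha) (mem_sup_right hb)
  · exact sup_le h.A_le h.B_le

theorem not_conj (h : IsL3 (S : Subgroup G) A B q) (g : G) : ∃ a ∈ A, g * a * g⁻¹ ∉ B := by
  by_contra hcon
  push Not at hcon
  have hle : A.map (MulAut.conj g).toMonoidHom ≤ B := by
    rintro _ ⟨a, ha, rfl⟩
    exact hcon a ha
  have hAB : A.map (MulAut.conj g).toMonoidHom = B :=
    Subgroup.eq_of_le_of_card_ge hle (by rw [card_map_conj, h.card_A, h.card_B])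
  have hSg : (S : Subgroup G).map (MulAut.conj g).toMonoidHom ≤ normalizer (B : Set G) := by
    have := map_conj_mono h.S_le_normalizer_A g
    rwa [map_conj_normalizer, hAB] at this
  obtain ⟨n, hn, hle2⟩ := exists_conj_le_in (p := 2) S.isPGroup'
    (sylow_not_dvd_relIndex S h.S_le_normalizer_B) hSg (S.isPGroup'.map _)
  rw [map_conj_map_conj] at hle2
  have h1 : n * g ∈ normalizer ((S : Subgroup G) : Set G) :=
    mem_normalizer_iff_map_conj.2 (map_conj_le_of_le_normalizer hle2)
  have h2 := mem_normalizer_iff_map_conj.1 (h.normalizer_le_A h1)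
  rw [← map_conj_map_conj, hAB, mem_normalizer_iff_map_conj.1 hn] at h2
  obtain ⟨a, ha, ha'⟩ := h.neA
  exact ha' (h2 ▸ ha)

/-- the local data -/
theorem local_data (h1169 : H1169.{u}) (h1171 : H1171.{u}) (h1296 : H1296.{u}) [IsSimpleGroup G]
    (h : IsL3 (S : Subgroup G) A B q) (hq : 4 ≤ q) : LThreeLocal A B q := by
  have hNA := h.not_normalizer_le h1169
  have hNB := h.not_normalizer_le' h1169
  have hNB' : ¬ normalizer (B : Set G) ≤ normalizer ((B ⊓ A : Subgroup G) : Set G) := by
    rw [inf_comm]; exact hNB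
  refine
  { four_le := hq
    even_q := ?_
    A_comm := h.A_comm
    B_comm := h.B_comm
    A_sq := h.A_sq
    B_sq := h.B_sq
    card_A := h.card_A
    card_B := h.card_B
    card_Z := h.card_Z
    A_le := h.A_le.trans h.S_le_normalizer_B
    B_le := h.B_le.trans h.S_le_normalizer_A
    sylow := ⟨S, sup_eq h.toIsAB⟩
    inv_mem := fun s hs h2 => h.inv s (by rw [sup_eq h.toIsAB]; exact hs) h2
    trans_A := fun a ha ha1 b hb hb1 => h.trans_A hNA ha ha1 hb hb1
    trans_B := fun a ha ha1 b hb hb1 => h.symm.trans_A hNB' ha ha1 hb hb1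
    H1 := ?_
    H2 := ?_
    cent_Z := fun z hz hz1 => le_inf
      ((h.centralizer_le h1169 h1171 h1296 hq hz hz1).trans h.normalizer_le_A)
      ((h.centralizer_le h1169 h1171 h1296 hq hz hz1).trans h.normalizer_le_B)
    not_conj := h.not_conj }
  · obtain ⟨k, hk⟩ := IsPGroup.iff_card.1 (S.isPGroup'.to_le h.Z_le)
    rw [h.card_Z] at hk
    rcases Nat.eq_zero_or_pos k with h0 | h0
    · rw [h0, pow_zero] at hk
      omega
    · rw [hk]
      exact (even_iff_two_dvd).2 (dvd_pow_self 2 h0.ne')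
  · intro g _ hgB z hz hgz
    by_contra hz1
    exact hgB (h.normalizer_le_B (h.mem_normalizer_S h1169 h1171 h1296 hq hz hz1 hgz))
  · intro g _ hgA z hz hgz
    by_contra hz1
    exact hgA (h.normalizer_le_A (h.mem_normalizer_S h1169 h1171 h1296 hq hz hz1 hgz))

end IsL3

end Cfsg.Agent.TypeL3
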