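import Mathlib
import Cfsg.Agent.TypeL3.Spread
import Cfsg.Agent.TypeL3.Local
import Cfsg.Agent.SylowL.SylowPSL

/-!
# The Sylow 2-subgroup of `PSL₃(F)` is of type `L₃(q)`
-/

set_option autoImplicit false

namespace Cfsg.Agent.TypeL3

open Subgroup Matrix Cfsg.Agent.TypeL3.Local Cfsg.Agent.SylowL.Lev Cfsg.Agent.SylowL.UT
open scoped commutatorElement

universe u w

section model

variable {F : Type w} [Field F]

theorem mat_mem (a b c : F) : (!![0, a, c; 0, 0, b; 0, 0, 0] : Matrix (Fin 3) (Fin 3) F) ∈ lev 3 F 1 := by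
  rw [mem_lev']
  intro i j hij
  fin_cases i <;> fin_cases j <;> simp at hij ⊢

/-- the element with entries `a = (0,1)`, `b = (1,2)`, `c = (0,2)` -/
def el (a b c : F) : UT 3 F := Cfsg.Agent.SylowL.UT.mk _ (mat_mem a b c)

theorem N_el (a b c : F) : N (el a b c) = !![0, a, c; 0, 0, b; 0, 0, 0] := N_mk _ _

theorem el_mul (a b c a' b' c' : F) : el a b c * el a' b' c' = el (a + a') (b + b') (c + c' + a * b') := by
  apply N_injective
  rw [N_mul, N_el, N_el, N_el]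
  ext i j
  fin_cases i <;> fin_cases j <;> simp

theorem el_zero : el (0 : F) 0 0 = 1 := by
  apply N_injective
  rw [N_el, N_one]
  ext i j
  fin_cases i <;> fin_cases j <;> rfl

theorem el_inj {a b c a' b' c' : F} : el a b c = el a' b' c' ↔ a = a' ∧ b = b' ∧ c = c' := by
  constructor
  · intro h
    have h1 := congrArg N h
    rw [N_el, N_el] at h1
    have h01 := congrFun (congrFun h1 0) 1
    have h12 := congrFun (congrFun h1 1) 2
    have h02 := congrFun (congrFun h1 0) 2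
    simp at h01 h12 h02
    exact ⟨h01, h12, h02⟩
  · rintro ⟨rfl, rfl, rfl⟩; rfl

theorem el_inv (a b c : F) : (el a b c)⁻¹ = el (-a) (-b) (-c + a * b) := by
  rw [inv_eq_iff_mul_eq_one, el_mul, ← el_zero, el_inj]
  refine ⟨by ring, by ring, by ring⟩

theorem exists_el (g : UT 3 F) : ∃ a b c, g = el a b c := by
  refine ⟨N g 0 1, N g 1 2, N g 0 2, ?_⟩
  apply N_injective
  rw [N_el]
  have h := mem_lev'.1 (N_mem g)
  ext i j
  fin_cases i <;> fin_cases j <;> simp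
  · exact h 0 0 (by simp)
  · exact h 1 0 (by simp)
  · exact h 1 1 (by simp)
  · exact h 2 0 (by simp)
  · exact h 2 1 (by simp)
  · exact h 2 2 (by simp)

theorem el_comm (a b c a' b' c' : F) :
    el a b c * el a' b' c' * (el a b c)⁻¹ * (el a' b' c')⁻¹ = el 0 0 (a * b' - a' * b) := by
  rw [el_inv, el_inv, el_mul, el_mul, el_mul, el_inj]
  refine ⟨by ring, by ring, by ring⟩

/-- `A = {el a 0 c}` -/
def A0 (F : Type w) [Field F] : Subgroup (UT 3 F) where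
  carrier := {g | ∃ a c, g = el a 0 c}
  one_mem' := ⟨0, 0, el_zero.symm⟩
  mul_mem' := by
    rintro _ _ ⟨a, c, rfl⟩ ⟨a', c', rfl⟩
    exact ⟨a + a', c + c', by rw [el_mul, el_inj]; refine ⟨rfl, by ring, by ring⟩⟩
  inv_mem' := by
    rintro _ ⟨a, c, rfl⟩
    exact ⟨-a, -c, by rw [el_inv, el_inj]; refine ⟨rfl, by ring, by ring⟩⟩

/-- `B = {el 0 b c}` -/
def B0 (F : Type w) [Field F] : Subgroup (UT 3 F) where
  carrier := {g | ∃ b c, g = el 0 b c}
  one_mem' := ⟨0, 0, el_zero.symm⟩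
  mul_mem' := by
    rintro _ _ ⟨a, c, rfl⟩ ⟨a', c', rfl⟩
    exact ⟨a + a', c + c', by rw [el_mul, el_inj]; refine ⟨by ring, rfl, by ring⟩⟩
  inv_mem' := by
    rintro _ ⟨a, c, rfl⟩
    exact ⟨-a, -c, by rw [el_inv, el_inj]; refine ⟨by ring, rfl, by ring⟩⟩

theorem mem_A0 {g : UT 3 F} : g ∈ A0 F ↔ ∃ a c, g = el a 0 c := Iff.rfl
theorem mem_B0 {g : UT 3 F} : g ∈ B0 F ↔ ∃ b c, g = el 0 b c := Iff.rfl

theorem mem_Z0 {g : UT 3 F} : g ∈ A0 F ⊓ B0 F ↔ ∃ c, g = el 0 0 c := by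
  rw [mem_inf]
  constructor
  · rintro ⟨⟨a, c, rfl⟩, ⟨b, d, h⟩⟩
    rw [el_inj] at h
    exact ⟨c, by rw [h.1]⟩
  · rintro ⟨c, rfl⟩
    exact ⟨⟨0, c, rfl⟩, ⟨0, c, rfl⟩⟩

theorem el_mem_A0 {a b c : F} : el a b c ∈ A0 F ↔ b = 0 := by
  rw [mem_A0]
  constructor
  · rintro ⟨a', c', h⟩
    exact (el_inj.1 h).2.1
  · rintro rfl
    exact ⟨a, c, rfl⟩

theorem el_mem_B0 {a b c : F} : el a b c ∈ B0 F ↔ a = 0 := by
  rw [mem_B0]
  constructor
  · rintro ⟨a', c', h⟩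
    exact (el_inj.1 h).1
  · rintro rfl
    exact ⟨b, c, rfl⟩

theorem card_A0 [Fintype F] : Nat.card (A0 F) = Fintype.card F ^ 2 := by
  have e : F × F ≃ A0 F := Equiv.ofBijective (fun p => ⟨el p.1 0 p.2, p.1, p.2, rfl⟩) ⟨by
    rintro ⟨a, c⟩ ⟨a', c'⟩ h
    have h0 : el a 0 c = el a' 0 c' := congrArg Subtype.val h
    have h1 := el_inj.1 h0
    exact Prod.ext h1.1 h1.2.2, by
    rintro ⟨_, a, c, rfl⟩
    exact ⟨(a, c), rfl⟩⟩
  rw [← Nat.card_congr e, Nat.card_prod, Nat.card_eq_fintype_card, pow_two]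

theorem card_B0 [Fintype F] : Nat.card (B0 F) = Fintype.card F ^ 2 := by
  have e : F × F ≃ B0 F := Equiv.ofBijective (fun p => ⟨el 0 p.1 p.2, p.1, p.2, rfl⟩) ⟨by
    rintro ⟨a, c⟩ ⟨a', c'⟩ h
    have h0 : el 0 a c = el 0 a' c' := congrArg Subtype.val h
    have h1 := el_inj.1 h0
    exact Prod.ext h1.2.1 h1.2.2, by
    rintro ⟨_, a, c, rfl⟩
    exact ⟨(a, c), rfl⟩⟩
  rw [← Nat.card_congr e, Nat.card_prod, Nat.card_eq_fintype_card, pow_two]

theorem card_Z0 [Fintype F] : Nat.card (A0 F ⊓ B0 F : Subgroup (UT 3 F)) = Fintype.card F := by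
  have e : F ≃ (A0 F ⊓ B0 F : Subgroup (UT 3 F)) :=
    Equiv.ofBijective (fun c => ⟨el 0 0 c, mem_Z0.2 ⟨c, rfl⟩⟩) ⟨by
      intro c c' h
      have h0 : el 0 0 c = el 0 0 c' := congrArg Subtype.val h
      exact (el_inj.1 h0).2.2, by
      rintro ⟨g, hg⟩
      obtain ⟨c, rfl⟩ := mem_Z0.1 hg
      exact ⟨c, rfl⟩⟩
  rw [← Nat.card_congr e, Nat.card_eq_fintype_card]

theorem isL3_model [Fintype F] [CharP F 2] : IsL3 (⊤ : Subgroup (UT 3 F)) (A0 F) (B0 F) (Fintype.card F) where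
  A_le := le_top
  B_le := le_top
  prod := by
    intro s _
    obtain ⟨a, b, c, rfl⟩ := exists_el s
    refine ⟨el a 0 0, el_mem_A0.2 rfl, el 0 b (c - a * b), el_mem_B0.2 rfl, ?_⟩
    rw [el_mul, el_inj]
    refine ⟨by ring, by ring, by ring⟩
  A_comm := by
    rintro _ ⟨a, c, rfl⟩ _ ⟨a', c', rfl⟩
    rw [el_mul, el_mul, el_inj]
    refine ⟨by ring, by ring, by ring⟩
  B_comm := by
    rintro _ ⟨a, c, rfl⟩ _ ⟨a', c', rfl⟩
    rw [el_mul, el_mul, el_inj]
    refine ⟨by ring, by ring, by ring⟩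
  A_sq := by
    rintro _ ⟨a, c, rfl⟩
    rw [el_mul, ← el_zero, el_inj]
    refine ⟨CharTwo.add_self_eq_zero a, by ring, by rw [CharTwo.add_self_eq_zero c]; ring⟩
  B_sq := by
    rintro _ ⟨a, c, rfl⟩
    rw [el_mul, ← el_zero, el_inj]
    refine ⟨by ring, CharTwo.add_self_eq_zero a, by rw [CharTwo.add_self_eq_zero c]; ring⟩
  br := by
    rintro _ ⟨a, c, rfl⟩ _ ⟨b, d, rfl⟩
    rw [el_comm]
    exact mem_Z0.2 ⟨_, rfl⟩
  inv := by
    intro s _ h2
    obtain ⟨a, b, c, rfl⟩ := exists_el s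
    rw [el_mul, ← el_zero, el_inj, CharTwo.add_self_eq_zero c, zero_add] at h2
    rcases mul_eq_zero.1 h2.2.2 with h | h
    · exact Or.inr (el_mem_B0.2 h)
    · exact Or.inl (el_mem_A0.2 h)
  centA := by
    rintro _ ⟨a, c, rfl⟩ hab s _ hc
    obtain ⟨a', b', c', rfl⟩ := exists_el s
    rw [el_mul, el_mul, el_inj] at hc
    have ha : a ≠ 0 := fun h => hab (el_mem_B0.2 h)
    have h1 : a * b' = 0 := by linear_combination hc.2.2
    exact el_mem_A0.2 ((mul_eq_zero.1 h1).resolve_left ha)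
  centB := by
    rintro _ ⟨b, c, rfl⟩ hab s _ hc
    obtain ⟨a', b', c', rfl⟩ := exists_el s
    rw [el_mul, el_mul, el_inj] at hc
    have hb : b ≠ 0 := fun h => hab (el_mem_A0.2 h)
    have h1 : a' * b = 0 := by linear_combination -hc.2.2
    exact el_mem_B0.2 ((mul_eq_zero.1 h1).resolve_right hb)
  der := by
    intro z hz
    obtain ⟨c, rfl⟩ := mem_Z0.1 hz
    have h1 : (el (0 : F) 0 c) = ⁅el c 0 0, el 0 1 0⁆ := by
      rw [commutatorElement_def, el_comm, el_inj]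
      refine ⟨rfl, rfl, by ring⟩
    rw [h1]
    exact commutator_mem_commutator (mem_top _) (mem_top _)
  neA := ⟨el 1 0 0, el_mem_A0.2 rfl, fun h => one_ne_zero (el_mem_B0.1 h)⟩
  neB := ⟨el 0 1 0, el_mem_B0.2 rfl, fun h => one_ne_zero (el_mem_A0.1 h)⟩
  card_Z := card_Z0
  card_A := card_A0
  card_B := card_B0
  commA := by
    rintro _ ⟨a, c, rfl⟩ hab z hz
    obtain ⟨d, rfl⟩ := mem_Z0.1 hz
    have ha : a ≠ 0 := fun h => hab (el_mem_B0.2 h)
    refine ⟨el 0 (d / a) 0, el_mem_B0.2 rfl, ?_⟩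
    rw [el_comm, el_inj]
    refine ⟨rfl, rfl, by field_simp; ring⟩
  commB := by
    rintro _ ⟨b, c, rfl⟩ hab z hz
    obtain ⟨d, rfl⟩ := mem_Z0.1 hz
    have hb : b ≠ 0 := fun h => hab (el_mem_A0.2 h)
    refine ⟨el (-(d / b)) 0 0, el_mem_A0.2 rfl, ?_⟩
    rw [el_comm, el_inj]
    refine ⟨rfl, rfl, by field_simp; ring⟩

end model

variable {G : Type u} [Group G] {F : Type w} [Field F] [Fintype F] [CharP F 2]

/-- the structure of a subgroup isomorphic to `UT₃(F)` -/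
theorem exists_isL3 {S : Subgroup G} (e : S ≃* UT 3 F) : ∃ (A B : Subgroup G) (x y z : F → G),
    IsL3 S A B (Fintype.card F) ∧ LThreeCoord A B x y z := by
  let f : UT 3 F →* G := S.subtype.comp e.symm.toMonoidHom
  have hf : ∀ g, f g = ((e.symm g : S) : G) := fun g => rfl
  have hinj : Function.Injective f := by
    intro a b hab
    exact e.symm.injective (Subtype.ext hab)
  have hker : ∀ x ∈ (⊤ : Subgroup (UT 3 F)), f x = 1 → x = 1 := fun x _ hx =>
    hinj (hx.trans (map_one f).symm)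
  have hS : (⊤ : Subgroup (UT 3 F)).map f = S := by
    ext s
    constructor
    · rintro ⟨g, -, rfl⟩
      exact (e.symm g).2
    · intro hs
      exact ⟨e ⟨s, hs⟩, mem_top _, by rw [hf, MulEquiv.symm_apply_apply]⟩
  have h := (isL3_model (F := F)).map f hker
  rw [hS] at h
  refine ⟨_, _, fun a => f (el a 0 0), fun b => f (el 0 b 0), fun c => f (el 0 0 c), h, ?_⟩
  refine ⟨?_, ?_, ?_, ?_, ?_, ?_⟩
  · intro a b
    rw [← map_mul, el_mul]
    congr 1
    rw [el_inj]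
    refine ⟨rfl, by ring, by ring⟩
  · intro a b
    rw [← map_mul, el_mul]
    congr 1
    rw [el_inj]
    refine ⟨by ring, rfl, by ring⟩
  · intro a b
    rw [← map_mul, el_mul]
    congr 1
    rw [el_inj]
    refine ⟨by ring, by ring, by ring⟩
  · intro g
    constructor
    · rintro ⟨_, ⟨a, c, rfl⟩, rfl⟩
      refine ⟨a, c, ?_⟩
      rw [← map_mul, el_mul]
      congr 1
      rw [el_inj]
      refine ⟨by ring, by ring, by ring⟩
    · rintro ⟨a, c, rfl⟩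
      rw [← map_mul, el_mul]
      refine ⟨_, el_mem_A0.2 ?_, rfl⟩
      ring
  · intro g
    constructor
    · rintro ⟨_, ⟨a, c, rfl⟩, rfl⟩
      refine ⟨a, c, ?_⟩
      rw [← map_mul, el_mul]
      congr 1
      rw [el_inj]
      refine ⟨by ring, by ring, by ring⟩
    · rintro ⟨a, c, rfl⟩
      rw [← map_mul, el_mul]
      refine ⟨_, el_mem_B0.2 ?_, rfl⟩
      ring
  · intro a b
    rw [← map_inv, ← map_inv, ← map_mul, ← map_mul, ← map_mul, el_comm]
    congr 1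
    rw [el_inj]
    refine ⟨rfl, rfl, by ring⟩

end Cfsg.Agent.TypeL3
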