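import Mathlib
import Cfsg.Agent.TypeL3.Deliver
import Cfsg.Agent.TypeL3.Model
import Cfsg.Agent.TypeL3.Back

/-!
# Simple groups with Sylow 2-subgroups of type `L₃(2ʳ)`, `r ≥ 2`

`nonempty_psl_of_sylow`: conditional on S1169 (`H1169`), the first half of S1171 (`H1171`), S1296 (`H1296`).
-/

set_option autoImplicit false

namespace Cfsg.Agent.TypeL3.Main

open Cfsg.Agent.TypeL3

universe u w

theorem charP_two {F : Type w} [Field F] [Fintype F] {r : ℕ} (hF : Fintype.card F = 2 ^ r) :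
    CharP F 2 := by
  obtain ⟨p, hp⟩ := CharP.exists F
  obtain ⟨n, hpp, hn⟩ := FiniteField.card F p
  rw [hF] at hn
  have h1 : p ∣ 2 ^ r := by
    rw [hn]
    exact dvd_pow_self p n.2.ne'
  have h2 : p = 2 := (Nat.prime_dvd_prime_iff_eq hpp Nat.prime_two).1 (hpp.dvd_of_dvd_pow h1)
  rw [← h2]
  exact hp

/-- **Type `L₃(q)`**, `q = 2ʳ ≥ 4`. -/
theorem nonempty_psl_of_sylow (h1169 : H1169.{u}) (h1171 : H1171.{u}) (h1296 : H1296.{u})
    {G : Type u} [Group G] [Finite G] [IsSimpleGroup G] {F : Type w} [Field F] [Fintype F] {r : ℕ}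
    (hr : 2 ≤ r) (hF : Fintype.card F = 2 ^ r) (S : Sylow 2 G)
    (P : Sylow 2 (Matrix.ProjectiveSpecialLinearGroup (Fin 3) F))
    (hS : Nonempty (↥(S : Subgroup G) ≃* ↥(P : Subgroup (Matrix.ProjectiveSpecialLinearGroup (Fin 3) F)))) :
    Nonempty (G ≃* Matrix.ProjectiveSpecialLinearGroup (Fin 3) F) := by
  have : CharP F 2 := charP_two hF
  obtain ⟨e⟩ := hS
  obtain ⟨e'⟩ := Cfsg.Agent.SylowL.SylowPSL.sylow_equiv 2 P
  obtain ⟨A, B, x, y, z, h, hc⟩ := exists_isL3 (e.trans e')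
  have hq : 4 ≤ Fintype.card F := by
    rw [hF]
    calc 4 = 2 ^ 2 := by norm_num
      _ ≤ 2 ^ r := Nat.pow_le_pow_right (by norm_num) hr
  exact Back.nonempty_psl hc (h.local_data h1169 h1171 h1296 hq) Nat.card_eq_fintype_card

end Cfsg.Agent.TypeL3.Main
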